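import Mathlib
import Cfsg.Agent.Lib.Asch.Subfield
import Cfsg.Agent.Lib.Symp.Basic
import Cfsg.Agent.Lib.Classical.SmallIso

/-!
Vocabulary for the quasisimple irreducible subgroups of `Sp₄(q)`.  See `plans/DIM4.md`.
-/

set_option autoImplicit false

namespace CfsgLib.Dim4

open Matrix Cfsg Cfsg.Geo CfsgLib.Asch CfsgLib.Forms CfsgLib.Symp Subgroup
open scoped MatrixGroups commutatorElement

/-- the index set -/
abbrev I4 : Type := Fin 2 ⊕ Fin 2

/-- column vectors -/
abbrev V4 (K : Type*) := I4 → K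

/-- `4 × 4` matrices -/
abbrev M4 (K : Type*) := Matrix I4 I4 K

/-- the symplectic group; it acts on `V4 K` by `A • v = A.1 *ᵥ v` -/
abbrev Sp4 (K : Type*) [Field K] : Type _ := symplecticGroup (Fin 2) K

/-- the alternating form -/
noncomputable abbrev B4 {K : Type*} [Field K] : LinearMap.BilinForm K (V4 K) := spB (Fin 2) K

variable {G F K : Type*} [Group G] [Field F] [Field K]

/-- the matrices of a representation -/
def mats (ρ : G →* Sp4 F) : Set (M4 F) := Set.range fun g => (ρ g).1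

/-- absolutely irreducible -/
def Abs (ρ : G →* Sp4 F) : Prop := Submodule.span F (mats ρ) = ⊤

/-- no non-zero fixed vector -/
def NoFix (ρ : G →* Sp4 F) : Prop := ∀ v : V4 F, (∀ g, ρ g • v = v) → v = 0

/-- the traces generate the field -/
def NoSub (ρ : G →* Sp4 F) : Prop := ∀ F₀ : Subfield F, (∀ g, (ρ g).1.trace ∈ F₀) → F₀ = ⊤

/-- an invariant quadratic form with polar form `B4` (characteristic two) -/
def HasQuad (ρ : G →* Sp4 F) : Prop :=
  ∃ Q : V4 F → F, (∀ (c : F) v, Q (c • v) = c ^ 2 * Q v) ∧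
    (∀ u v, Q (u + v) = Q u + Q v + B4 u v) ∧ ∀ g v, Q (ρ g • v) = Q v

/-- the transvection `x ↦ x + (d * B4 x u) • u` is in the image -/
def Tv (ρ : G →* Sp4 F) (u : V4 F) (d : F) : Prop := spT u d ∈ ρ.range

/-- perfect, and every proper normal subgroup is central -/
structure QS (G : Type*) [Group G] : Prop where
  perf : commutator G = ⊤
  nrm : ∀ N : Subgroup G, N.Normal → N ≤ center G ∨ N = ⊤

/-- split rank one data: `G = B ∪ S w B`, `B = S ⟨τ⟩` -/
structure R1 (p : ℕ) (S : Subgroup G) (τ w : G) : Prop where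
  pg : IsPGroup p S
  ne : S ≠ ⊥
  nrm : ∀ s ∈ S, τ * s * τ⁻¹ ∈ S
  bru : ∀ g, (∃ s ∈ S, ∃ i : ℕ, g = s * τ ^ i) ∨
    ∃ s ∈ S, ∃ s' ∈ S, ∃ i : ℕ, g = s * w * (s' * τ ^ i)

/-- the sum of the principal `2 × 2` minors -/
def c2 (A : M4 F) : F :=
  (A (.inl 0) (.inl 0) * A (.inl 1) (.inl 1) - A (.inl 0) (.inl 1) * A (.inl 1) (.inl 0)) +
  (A (.inl 0) (.inl 0) * A (.inr 0) (.inr 0) - A (.inl 0) (.inr 0) * A (.inr 0) (.inl 0)) +
  (A (.inl 0) (.inl 0) * A (.inr 1) (.inr 1) - A (.inl 0) (.inr 1) * A (.inr 1) (.inl 0)) +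
  (A (.inl 1) (.inl 1) * A (.inr 0) (.inr 0) - A (.inl 1) (.inr 0) * A (.inr 0) (.inl 1)) +
  (A (.inl 1) (.inl 1) * A (.inr 1) (.inr 1) - A (.inl 1) (.inr 1) * A (.inr 1) (.inl 1)) +
  (A (.inr 0) (.inr 0) * A (.inr 1) (.inr 1) - A (.inr 0) (.inr 1) * A (.inr 1) (.inr 0))

/-- base change -/
def bc (f : F →+* K) : Sp4 F →* Sp4 K where
  toFun A := ⟨f.mapMatrix A.1, Classical.sp_map_mem f A.2⟩
  map_one' := Subtype.ext (map_one _)
  map_mul' _ _ := Subtype.ext (map_mul _ _ _)

variable {ρ : G →* Sp4 F}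

theorem coe_bc (f : F →+* K) (A : Sp4 F) : (bc f A).1 = A.1.map f := rfl

theorem bc_injective (f : F →+* K) : Function.Injective (bc f) := fun _ _ h =>
  Subtype.ext (Matrix.map_injective f.injective (congrArg Subtype.val h))

theorem bc_smul (f : F →+* K) (A : Sp4 F) (v : V4 F) : bc f A • (f ∘ v) = f ∘ (A • v) := by
  ext i
  exact (RingHom.map_mulVec f A.1 v i).symm

theorem B4_comp (f : F →+* K) (u v : V4 F) : B4 (f ∘ u) (f ∘ v) = f (B4 u v) := by
  simp [spB_eq_sum]

theorem trace_bc (f : F →+* K) (A : Sp4 F) : (bc f A).1.trace = f A.1.trace := by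
  simp [coe_bc, Matrix.trace]

theorem B4_apply (u v : V4 F) : B4 u v = u (.inr 0) * v (.inl 0) - u (.inl 0) * v (.inr 0) +
    (u (.inr 1) * v (.inl 1) - u (.inl 1) * v (.inr 1)) := by
  rw [spB_eq_sum, Fin.sum_univ_two]

theorem B4_smul (A : Sp4 F) (u v : V4 F) : B4 (A • u) (A • v) = B4 u v := spB_smul_smul A u v

theorem B4_inv (A : Sp4 F) (u v : V4 F) : B4 (A • u) v = B4 u (A⁻¹ • v) := by
  rw [← B4_smul A u, smul_inv_smul]

theorem eq_zero_of_B4 {v : V4 F} (h : ∀ u, B4 u v = 0) : v = 0 := by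
  by_contra hv
  obtain ⟨u, hu⟩ := exists_spB_eq_one hv
  exact one_ne_zero (hu.symm.trans (h u))

theorem smul_add' (A : Sp4 F) (u v : V4 F) : A • (u + v) = A • u + A • v := mulVec_add _ _ _

theorem smul_sub' (A : Sp4 F) (u v : V4 F) : A • (u - v) = A • u - A • v := mulVec_sub _ _ _

theorem smul_smul' (A : Sp4 F) (c : F) (v : V4 F) : A • (c • v) = c • A • v := mulVec_smul _ _ _

theorem smul_zero' (A : Sp4 F) : A • (0 : V4 F) = 0 := mulVec_zero _

theorem smul_ne_zero' (A : Sp4 F) {v : V4 F} (hv : v ≠ 0) : A • v ≠ 0 := fun h =>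
  hv (by rw [← inv_smul_smul A v, h, smul_zero'])

theorem finrank_V4 : Module.finrank F (V4 F) = 4 := by simp

theorem mem_mats (ρ : G →* Sp4 F) (g : G) : (ρ g).1 ∈ mats ρ := ⟨g, rfl⟩

theorem mats_mul (ρ : G →* Sp4 F) : ∀ a ∈ mats ρ, ∀ b ∈ mats ρ, a * b ∈ mats ρ := by
  rintro _ ⟨g, rfl⟩ _ ⟨h, rfl⟩
  exact ⟨g * h, by simp⟩

theorem Abs.comm (h : Abs ρ) {x : M4 F} (hx : ∀ g, x * (ρ g).1 = (ρ g).1 * x) :
    ∃ c : F, x = c • (1 : M4 F) :=
  scalar_of_comm_span h (by rintro _ ⟨g, rfl⟩; exact hx g)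

theorem Abs.irr (h : Abs ρ) (W : Submodule F (V4 F)) (hW : ∀ g, ∀ v ∈ W, ρ g • v ∈ W) :
    W = ⊥ ∨ W = ⊤ :=
  irred_of_span h W (by rintro _ ⟨g, rfl⟩; exact map_toLin'_le_iff.2 (hW g))

/-- no invariant point -/
theorem Abs.not_fix (h : Abs ρ) {v : V4 F} (hv : ∀ g, ∃ c : F, ρ g • v = c • v) : v = 0 := by
  rcases h.irr (Submodule.span F {v}) (fun g w hw => by
    obtain ⟨a, rfl⟩ := Submodule.mem_span_singleton.1 hw
    obtain ⟨c, hc⟩ := hv g
    rw [smul_smul', hc]
    exact Submodule.smul_mem _ _ (Submodule.smul_mem _ _ (Submodule.mem_span_singleton_self v)))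
    with e | e
  · exact Submodule.span_singleton_eq_bot.1 e
  · by_contra h0
    have := finrank_span_singleton (K := F) h0
    rw [e, finrank_top, finrank_V4] at this
    omega

theorem Abs.noFix (h : Abs ρ) : NoFix ρ := fun _ hv => h.not_fix fun g => ⟨1, by simp [hv g]⟩

/-- the orbit of a non-zero vector spans -/
theorem Abs.span_orbit (h : Abs ρ) {v : V4 F} (hv : v ≠ 0) :
    Submodule.span F (Set.range fun g => ρ g • v) = ⊤ := by
  refine (h.irr _ fun g w hw => ?_).resolve_left fun e => hv ?_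
  · induction hw using Submodule.span_induction with
    | mem x hx =>
      obtain ⟨k, rfl⟩ := hx
      exact Submodule.subset_span ⟨g * k, by simp [mul_smul]⟩
    | zero => rw [smul_zero']; exact zero_mem _
    | add x y _ _ hx hy => rw [smul_add']; exact add_mem hx hy
    | smul c x _ hx => rw [smul_smul']; exact Submodule.smul_mem _ _ hx
  · exact Submodule.span_eq_bot.1 e v ⟨1, by simp⟩

theorem Abs.exists_B4_ne (h : Abs ρ) {u v : V4 F} (hu : u ≠ 0) (hv : v ≠ 0) :
    ∃ g, B4 (ρ g • v) u ≠ 0 := by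
  by_contra hn
  push Not at hn
  refine hu (eq_zero_of_B4 fun w => ?_)
  have : Submodule.span F (Set.range fun g => ρ g • v) ≤ LinearMap.ker (B4.flip u) :=
    Submodule.span_le.2 (by rintro _ ⟨g, rfl⟩; exact hn g)
  exact this (h.span_orbit hv ▸ Submodule.mem_top)

theorem Abs.bc (h : Abs ρ) (f : F →+* K) : Abs ((bc f).comp ρ) := by
  have key : ∀ a : M4 F, a.map f ∈ Submodule.span K (mats ((Dim4.bc f).comp ρ)) := fun a => by
    have ha : a ∈ Submodule.span F (mats ρ) := h ▸ Submodule.mem_top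
    induction ha using Submodule.span_induction with
    | mem x hx => obtain ⟨g, rfl⟩ := hx; exact Submodule.subset_span ⟨g, rfl⟩
    | zero => simp
    | add x y _ _ hx hy => rw [Matrix.map_add _ (map_add f)]; exact add_mem hx hy
    | smul c x _ hx =>
      have : (c • x).map f = f c • x.map f := by ext; simp
      rw [this]; exact Submodule.smul_mem _ _ hx
  refine eq_top_iff.2 fun a _ => ?_
  rw [matrix_eq_sum_single a]
  refine sum_mem fun i _ => sum_mem fun j _ => ?_
  have : single i j (a i j) = a i j • (single i j (1 : F)).map f := by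
    ext k l; simp [single, apply_ite f]
  rw [this]
  exact Submodule.smul_mem _ _ (key _)

theorem Abs.comp {H : Type*} [Group H] (h : Abs ρ) {φ : H →* G} (hφ : Function.Surjective φ) :
    Abs (ρ.comp φ) := by
  have : mats (ρ.comp φ) = mats ρ := hφ.range_comp fun g => (ρ g).1
  rw [Abs, this]; exact h

theorem NoSub.comp {H : Type*} [Group H] (h : NoSub ρ) {φ : H →* G}
    (hφ : Function.Surjective φ) : NoSub (ρ.comp φ) := fun F₀ hF =>
  h F₀ fun g => by obtain ⟨x, rfl⟩ := hφ g; exact hF x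

theorem NoSub.eq_top (h : NoSub ρ) {F₀ : Subfield F} (hF : RealisableOver F₀ (mats ρ)) : F₀ = ⊤ := by
  obtain ⟨B, hB⟩ := realisableOver_iff.1 hF
  exact h F₀ fun g => trace_cj B (ρ g).1 ▸ (hB _ (mem_mats ρ g)).trace_mem

/-- if all traces are fixed by `a ↦ a ^ p ^ k`, all field elements are -/
theorem NoSub.pow_eq (h : NoSub ρ) (p k : ℕ) [Fact p.Prime] [CharP F p]
    (ht : ∀ g, (ρ g).1.trace ^ p ^ k = (ρ g).1.trace) (a : F) : a ^ p ^ k = a := by
  have := h ((iterateFrobenius F p k).eqLocusField (RingHom.id F)) ht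
  have ha : a ∈ (iterateFrobenius F p k).eqLocusField (RingHom.id F) := this ▸ Subfield.mem_top a
  exact ha

theorem c2_mul_comm (A B : M4 F) : c2 (A * B) = c2 (B * A) := by
  simp only [c2, mul_apply, Fintype.sum_sum_type, Fin.sum_univ_two]; ring

theorem c2_cj (B : GL I4 F) (A : M4 F) : c2 (cj B A) = c2 A := by
  rw [cj_apply, c2_mul_comm, ← mul_assoc, Units.inv_mul, one_mul]

theorem c2_mem {F₀ : Subfield F} (hF : RealisableOver F₀ (mats ρ)) (g : G) : c2 (ρ g).1 ∈ F₀ := by
  obtain ⟨B, hB⟩ := realisableOver_iff.1 hF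
  have h := hB _ (mem_mats ρ g)
  rw [← c2_cj B, c2]
  refine add_mem (add_mem (add_mem (add_mem (add_mem ?_ ?_) ?_) ?_) ?_) ?_ <;>
    exact sub_mem (mul_mem (h _ _) (h _ _)) (mul_mem (h _ _) (h _ _))

theorem two_mul_c2 (A : M4 F) : 2 * c2 A = A.trace ^ 2 - (A * A).trace := by
  simp only [c2, Matrix.trace, diag, mul_apply, Fintype.sum_sum_type, Fin.sum_univ_two]; ring

theorem qs_of_simple [IsSimpleGroup G] (h : ¬ IsMulCommutative G) : QS G where
  perf := (IsSimpleGroup.eq_bot_or_eq_top_of_normal _ inferInstance).resolve_left fun e =>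
    h ⟨⟨fun a b => commutatorElement_eq_one_iff_mul_comm.1
      (mem_bot.1 (e ▸ commutator_mem_commutator (mem_top a) (mem_top b)))⟩⟩
  nrm N hN := (IsSimpleGroup.eq_bot_or_eq_top_of_normal N hN).imp (fun e => e.le.trans bot_le) id

/-- a homomorphism from a perfect group to a commutative group is trivial -/
theorem QS.hom_eq_one (h : QS G) {A : Type*} [CommGroup A] (φ : G →* A) (g : G) : φ g = 1 :=
  Abelianization.commutator_subset_ker φ (h.perf ▸ mem_top g)

theorem QS.index_ne_two (h : QS G) (M : Subgroup G) : M.index ≠ 2 := fun e => by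
  have := normal_of_index_eq_two e
  have hc : Nat.card (G ⧸ M) = 2 := e
  have : IsCyclic (G ⧸ M) := isCyclic_of_prime_card hc
  let _ : CommGroup (G ⧸ M) := IsCyclic.commGroup
  have : M = ⊤ := eq_top_iff.2 fun g _ =>
    (QuotientGroup.eq_one_iff g).1 (h.hom_eq_one (QuotientGroup.mk' M) g)
  simp [this] at e

/-- a conjugation invariant set with a non-central member generates -/
theorem QS.closure_eq_top (h : QS G) {D : Set G} (hD : ∀ d ∈ D, ∀ g, g * d * g⁻¹ ∈ D) {d : G}
    (hd : d ∈ D) (hc : d ∉ center G) : closure D = ⊤ := by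
  have : (closure D).Normal := ⟨fun n hn g => by
    induction hn using closure_induction with
    | mem x hx => exact subset_closure (hD x hx g)
    | one => simp
    | mul x y _ _ hx hy => simpa [mul_assoc] using mul_mem hx hy
    | inv x _ hx => simpa [mul_assoc] using inv_mem hx⟩
  exact (h.nrm _ this).resolve_left fun e => hc (e (subset_closure hd))

theorem Tv.conj {u : V4 F} {d : F} (h : Tv ρ u d) (g : G) : Tv ρ (ρ g • u) d := by
  rw [Tv, ← conj_spT]
  exact mul_mem (mul_mem ⟨g, rfl⟩ h) (inv_mem ⟨g, rfl⟩)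

theorem Tv.add {u : V4 F} {d e : F} (h : Tv ρ u d) (h' : Tv ρ u e) : Tv ρ u (d + e) := by
  rw [Tv, spT_add]; exact mul_mem h h'

theorem Tv.neg {u : V4 F} {d : F} (h : Tv ρ u d) : Tv ρ u (-d) := by
  rw [Tv, spT_neg]; exact inv_mem h

theorem tv_zero (u : V4 F) : Tv ρ u 0 := by rw [Tv, spT_zero]; exact one_mem _

theorem tv_smul {u : V4 F} {a d : F} : Tv ρ (a • u) d ↔ Tv ρ u (d * a ^ 2) := by
  rw [Tv, spT_smul_left]; rfl

/-! ### from subgroups of `GL₄` -/

/-- the representation of a subgroup of `spGL 2 F` -/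
def ofSub {P : Subgroup (GL I4 F)} (h : P ≤ spGL 2 F) : P →* Sp4 F where
  toFun g := ⟨(g.1 : M4 F), (mem_sp_iff _).2 fun u v => by
    rw [spB_eq_sympForm, spB_eq_sympForm]; exact h g.2 u v⟩
  map_one' := rfl
  map_mul' _ _ := rfl

theorem coe_ofSub {P : Subgroup (GL I4 F)} (h : P ≤ spGL 2 F) (g : P) :
    (ofSub h g).1 = (g.1 : M4 F) := rfl

theorem ofSub_injective {P : Subgroup (GL I4 F)} (h : P ≤ spGL 2 F) :
    Function.Injective (ofSub h) := fun _ _ e => Subtype.ext (Units.ext (congrArg Subtype.val e))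

theorem mats_ofSub {P : Subgroup (GL I4 F)} (h : P ≤ spGL 2 F) : mats (ofSub h) = matrixSet P := by
  ext a
  exact ⟨fun ⟨g, hg⟩ => ⟨g.1, g.2, hg⟩, fun ⟨g, hg, e⟩ => ⟨⟨g, hg⟩, e⟩⟩

theorem le_of_surjective {P : Subgroup (GL I4 F)} (h : P ≤ spGL 2 F)
    (hs : Function.Surjective (ofSub h)) : spGL 2 F ≤ P := fun g hg => by
  obtain ⟨x, hx⟩ := hs (ofSub le_rfl ⟨g, hg⟩)
  have : x.1 = g := Units.ext (congrArg Subtype.val hx)
  exact this ▸ x.2

variable {H P : Subgroup (GL I4 F)}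

theorem abs_of_core (hP : IsResidualCore H P) (h : P ≤ spGL 2 F) : Abs (ofSub h) := by
  rw [Abs, mats_ofSub]
  exact env_eq_top_iff.1 (span_eq_top_of_absIrred hP.absIrred)

theorem noSub_of_core [Finite F] (hP : IsResidualCore H P) (h : P ≤ spGL 2 F) :
    NoSub (ofSub h) := fun F₀ hF => by
  by_contra hne
  refine hP.no_subfield F₀ hne ?_
  rw [← mats_ofSub h]
  exact realisable_of_trace (mats_mul _) (abs_of_core hP h) (by rintro _ ⟨g, rfl⟩; exact hF g)

theorem center_eq_of_core (hP : IsResidualCore H P) : center P = (scalars I4 F).subgroupOf P := by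
  ext x
  rw [mem_subgroupOf, Subgroup.mem_center_iff]
  exact ⟨fun hx => mem_scalars_of_comm_env (span_eq_top_of_absIrred hP.absIrred) fun y hy =>
      (congrArg Subtype.val (hx ⟨y, hy⟩)).symm,
    fun hx y => Subtype.ext (mul_comm_of_mem_scalars hx y.1).symm⟩

theorem qs_of_core (hP : IsResidualCore H P) : QS P := by
  have hp : commutator P = ⊤ := by
    apply Subgroup.map_injective P.subtype_injective
    rw [_root_.commutator, map_commutator, ← MonoidHom.range_eq_map, range_subtype, hP.perfect]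
  refine ⟨hp, fun N hN => ?_⟩
  have := hP.simple
  rcases IsSimpleGroup.eq_bot_or_eq_top_of_normal
    (N.map (QuotientGroup.mk' ((scalars I4 F).subgroupOf P)))
    (hN.map _ (QuotientGroup.mk'_surjective _)) with e | e
  · rw [Subgroup.map_eq_bot_iff, QuotientGroup.ker_mk', ← center_eq_of_core hP] at e
    exact Or.inl e
  · right
    have h1 := congrArg (comap (QuotientGroup.mk' ((scalars I4 F).subgroupOf P))) e
    rw [comap_map_eq, comap_top, QuotientGroup.ker_mk', ← center_eq_of_core hP] at h1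
    rw [eq_top_iff, ← hp, _root_.commutator, commutator_le]
    intro a ha b hb
    rw [← h1] at ha hb
    obtain ⟨a, ha', z, hz, rfl⟩ := mem_sup_of_normal_right.1 ha
    obtain ⟨b, hb', y, hy, rfl⟩ := mem_sup_of_normal_right.1 hb
    have e : ⁅a * z, b * y⁆ = ⁅a, b⁆ := by
      have hz := Subgroup.mem_center_iff.1 hz
      have hy := Subgroup.mem_center_iff.1 hy
      simp only [commutatorElement_def, _root_.mul_inv_rev]
      calc _ = a * (z * (b * y) * z⁻¹) * a⁻¹ * (y⁻¹ * b⁻¹) := by group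
        _ = a * b * (y * a⁻¹ * y⁻¹) * b⁻¹ := by rw [← hz, mul_inv_cancel_right]; group
        _ = _ := by rw [← hy, mul_inv_cancel_right]
    rw [e]
    exact mul_mem (mul_mem (mul_mem ha' hb') (inv_mem ha')) (inv_mem hb')

end CfsgLib.Dim4
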