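import Mathlib
import Cfsg.Agent.Lib.Dim4.Defs
import Cfsg.Agent.Lib.Transfer.Thompson
import Cfsg.Agent.Lib.W2.Tools
import Cfsg.Agent.S1243

/-!
DIM4, package TR: the stabiliser of a Lagrangian subspace, in terms of the Levi part `A` and the
cocycle `N`.
-/

set_option autoImplicit false

namespace CfsgLib.Dim4.TR

open Matrix Subgroup CfsgLib.Tech CfsgLib.W2

theorem sum_out_mul {H M : Type*} [Group H] (K : Subgroup H) [Fintype (H ⧸ K)] [AddCommMonoid M]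
    (f : H → M) (hf : ∀ h, ∀ k ∈ K, f (h * k) = f h) (g : H) :
    ∑ c : H ⧸ K, f (g * c.out) = ∑ c : H ⧸ K, f c.out := by
  rw [← Equiv.sum_comp (MulAction.toPerm g) fun c : H ⧸ K => f c.out]
  refine Finset.sum_congr rfl fun c _ => ?_
  obtain ⟨k, hk⟩ := QuotientGroup.mk_out_eq_mul K (g * c.out)
  rw [← hf _ k k.2, ← hk, MulAction.toPerm_apply, ← MulAction.Quotient.mk_smul_out, smul_eq_mul]

variable {G F : Type*} [Group G] [Field F]

theorem mem_of_sq_mem [Finite F] [CharP F 2] (R : Submonoid F) {x : F} (h : x ^ 2 ∈ R) :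
    x ∈ R ∧ x⁻¹ ∈ R := by
  have := Fintype.ofFinite F
  obtain ⟨n, -, hn⟩ := FiniteField.card F 2
  have h1 : x ∈ R := by
    have := pow_mem h (2 ^ ((n : ℕ) - 1))
    rwa [← pow_mul, ← pow_succ', Nat.sub_add_cancel (show 1 ≤ (n : ℕ) from n.2), ← hn,
      FiniteField.pow_card] at this
  refine ⟨h1, ?_⟩
  by_cases hx : x = 0
  · simpa [hx] using h1
  have h2 := Fintype.one_lt_card (α := F)
  rw [inv_eq_of_mul_eq_one_right (show x * x ^ (Fintype.card F - 2) = 1 by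
    rw [← pow_succ', ← FiniteField.pow_card_sub_one_eq_one x hx]; congr 1; omega)]
  exact pow_mem h1 _

/-- The data: `L` is the stabiliser of a Lagrangian subspace, `g = [[A, N A⁻ᵀ], [0, A⁻ᵀ]]`. -/
structure Dat (S : Sylow 2 G) (L : Subgroup G) (A N : G → Matrix (Fin 2) (Fin 2) F) (t : G) :
    Prop where
  le : (S : Subgroup G) ≤ L
  A_one : A 1 = 1
  A_mul : ∀ g ∈ L, ∀ h ∈ L, A (g * h) = A g * A h
  N_mul : ∀ g ∈ L, ∀ h ∈ L, N (g * h) = N g + A g * N h * (A g)ᵀ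
  symm : ∀ g ∈ L, N g 1 0 = N g 0 1
  inj : ∀ g ∈ L, A g = 1 → N g = 0 → g = 1
  uni : ∀ s ∈ (S : Subgroup G), A s = !![1, A s 0 1; 0, 1]
  T : ∀ g ∈ L, ∀ h ∈ L, A g = 1 → A h = 1 → ∀ (y : Fin 2 → F) (a b : F), y ≠ 0 → a ≠ 0 → b ≠ 0 →
    N g = a • vecMulVec y y → N h = b • vecMulVec y y → a = b
  ord : orderOf t = 2
  mem : t ∈ (S : Subgroup G)
  tv : ∀ d ∈ (S : Subgroup G), IsConj t d → A d = 1 ∧ ∃ y, N d = vecMulVec y y
  nL : ∀ n, ∀ d ∈ (S : Subgroup G), ∀ d' ∈ (S : Subgroup G), IsConj t d → IsConj t d' → d ≠ d' →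
    n * d * n⁻¹ ∈ (S : Subgroup G) → n * d' * n⁻¹ ∈ (S : Subgroup G) → n ∈ L

namespace Dat

variable {S : Sylow 2 G} {L : Subgroup G} {A N : G → Matrix (Fin 2) (Fin 2) F} {t : G}
  (h : Dat S L A N t)
include h

theorem N_one : N 1 = 0 := by
  have := h.N_mul 1 L.one_mem 1 L.one_mem
  simpa [h.A_one] using this

theorem A_inv {g : G} (hg : g ∈ L) : A g⁻¹ * A g = 1 := by
  rw [← h.A_mul _ (L.inv_mem hg) _ hg, inv_mul_cancel, h.A_one]

theorem det_ne {g : G} (hg : g ∈ L) : (A g).det ≠ 0 := fun e => by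
  simpa [e] using congrArg det (h.A_inv hg)

theorem A_conj {g d : G} (hg : g ∈ L) (hd : d ∈ L) : A (g * d * g⁻¹) * A g = A g * A d := by
  rw [← h.A_mul _ (L.mul_mem (L.mul_mem hg hd) (L.inv_mem hg)) _ hg, inv_mul_cancel_right,
    h.A_mul _ hg _ hd]

theorem conj {g d : G} (hg : g ∈ L) (hd : d ∈ L) (h1 : A d = 1) :
    A (g * d * g⁻¹) = 1 ∧ N (g * d * g⁻¹) = A g * N d * (A g)ᵀ := by
  have h2 := L.mul_mem (L.mul_mem hg hd) (L.inv_mem hg)
  have h3 : A (g * d * g⁻¹) = 1 := by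
    rw [h.A_mul _ (L.mul_mem hg hd) _ (L.inv_mem hg), h.A_mul _ hg _ hd, h1, Matrix.mul_one,
      mul_eq_one_comm.1 (h.A_inv hg)]
  have h4 := h.N_mul _ h2 _ hg
  rw [inv_mul_cancel_right, h.N_mul _ hg _ hd, h3, add_comm] at h4
  exact ⟨h3, by simpa using h4.symm⟩

theorem eq_of {g k : G} (hg : g ∈ L) (hk : k ∈ L) (h1 : A g = 1) (h2 : A k = 1) (e : N g = N k) :
    g = k := by
  have h3 : A k⁻¹ = 1 := by simpa [h2] using h.A_inv hk
  have h4 := h.N_mul _ (L.inv_mem hk) _ hk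
  rw [inv_mul_cancel, h.N_one, ← e, ← h.N_mul _ (L.inv_mem hk) _ hg] at h4
  exact (inv_mul_eq_one.1 (h.inj _ (L.mul_mem (L.inv_mem hk) hg)
    (by rw [h.A_mul _ (L.inv_mem hk) _ hg, h1, h3, Matrix.mul_one]) h4.symm)).symm

theorem comm {g k : G} (hg : g ∈ L) (hk : k ∈ L) (h1 : A g = 1) (h2 : A k = 1) : g * k = k * g :=
  h.eq_of (L.mul_mem hg hk) (L.mul_mem hk hg) (by simp [h.A_mul _ hg _ hk, h1, h2])
    (by simp [h.A_mul _ hk _ hg, h1, h2])
    (by simp [h.N_mul _ hg _ hk, h.N_mul _ hk _ hg, h1, h2, add_comm])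

variable (L A N) in
/-- `t_y` is in the group -/
def R (y : Fin 2 → F) : Prop := y ≠ 0 ∧ ∃ d ∈ L, A d = 1 ∧ N d = vecMulVec y y

variable (S N t) in
/-- `t_y` is a conjugate of `t` -/
def Y (y : Fin 2 → F) : Prop := ∃ d ∈ (S : Subgroup G), IsConj t d ∧ N d = vecMulVec y y

theorem Y_R {y : Fin 2 → F} (hy : Y S N t y) : R L A N y := by
  obtain ⟨d, h1, h2, h3⟩ := hy
  refine ⟨?_, d, h.le h1, (h.tv d h1 h2).1, h3⟩
  rintro rfl
  have := h.inj d (h.le h1) (h.tv d h1 h2).1 (by simpa using h3)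
  rw [this, isConj_one_left] at h2
  exact ne_one_of_ord h.ord h2

omit h in
theorem mul_vv (M : Matrix (Fin 2) (Fin 2) F) (y : Fin 2 → F) :
    M * vecMulVec y y * Mᵀ = vecMulVec (M *ᵥ y) (M *ᵥ y) := by
  rw [mul_vecMulVec, vecMulVec_mul, vecMul_transpose]

theorem R_mul {y : Fin 2 → F} (hy : R L A N y) {g : G} (hg : g ∈ L) : R L A N (A g *ᵥ y) := by
  obtain ⟨h1, d, h2, h3, h4⟩ := hy
  refine ⟨fun e => h1 ?_, _, L.mul_mem (L.mul_mem hg h2) (L.inv_mem hg), (h.conj hg h2 h3).1, ?_⟩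
  · rw [← one_mulVec y, ← h.A_inv hg, ← mulVec_mulVec, e, mulVec_zero]
  · rw [(h.conj hg h2 h3).2, h4, mul_vv]

variable [CharP F 2]

theorem R_eq {x y : Fin 2 → F} (hx : R L A N x) (hy : R L A N y)
    (e : x 0 * y 1 + x 1 * y 0 = 0) : x = y := by
  obtain ⟨h1, d, h2, h3, h4⟩ := hx
  obtain ⟨h5, d', h6, h7, h8⟩ := hy
  obtain ⟨a, rfl⟩ : ∃ a : F, y = a • x := by
    by_cases h0 : x 0 = 0
    · have h9 : x 1 ≠ 0 := fun e => h1 (by ext i; fin_cases i <;> simp [*])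
      refine ⟨y 1 / x 1, ?_⟩
      ext i; fin_cases i <;> simp <;> grind
    · refine ⟨y 0 / x 0, ?_⟩
      ext i; fin_cases i <;> simp <;> grind
  have ha : a ≠ 0 := by rintro rfl; simp at h5
  have := h.T d h2 d' h6 h3 h7 x 1 (a * a) h1 one_ne_zero (mul_ne_zero ha ha) (by simpa using h4)
    (by rw [h8]; ext i j; simp [vecMulVec_apply]; ring)
  rw [show a = 1 by grind, one_smul]

theorem scalar {g : G} (hg : g ∈ L) {a : F} (e : A g = !![a, 0; 0, a]) : a = 1 := by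
  obtain ⟨y, hy⟩ := (h.tv t h.mem (IsConj.refl t)).2
  have h1 := h.Y_R ⟨t, h.mem, IsConj.refl t, hy⟩
  have h2 := h.R_eq h1 (h.R_mul h1 hg) (by simp [e, mulVec, dotProduct]; grind)
  have h3 : y = a • y := h2.trans (by ext i; fin_cases i <;> simp [e, mulVec, dotProduct])
  exact (smul_left_injective F h1.1 ((one_smul _ _).trans h3)).symm

variable (L A) in
/-- the root elements of the Levi factor -/
def Lam (l : F) : Prop := ∃ g ∈ L, A g = !![1, l; 0, 1]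

variable (L A N) in
/-- the last entries in the unipotent radical -/
def Cc (c : F) : Prop := ∃ g ∈ L, A g = 1 ∧ N g 1 1 = c

theorem zeta {l c : F} (hl : Lam L A l) (hc : Cc L A N c) :
    ∃ g ∈ L, A g = 1 ∧ N g = !![l ^ 2 * c, l * c; l * c, 0] := by
  obtain ⟨g, hg, e⟩ := hl
  obtain ⟨d, hd, h1, rfl⟩ := hc
  have h2 := L.mul_mem (L.mul_mem hg hd) (L.inv_mem hg)
  obtain ⟨h3, h4⟩ := h.conj hg hd h1
  have h5 := h.symm d hd
  refine ⟨_, L.mul_mem hd h2, by simp [h.A_mul _ hd _ h2, h1, h3], ?_⟩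
  rw [h.N_mul _ hd _ h2, h4, h1, e]
  ext i j
  fin_cases i <;> fin_cases j <;> simp [mul_apply, vecMul, dotProduct] <;> grind

theorem zed {l m c : F} (h1 : Lam L A l) (h2 : Lam L A (m * l)) (hl : l ≠ 0) (hm : m ≠ 0)
    (hm1 : m ≠ 1) (hc : c ≠ 0) (h3 : Cc L A N c) (h4 : Cc L A N (m * c))
    (h5 : Cc L A N (m * (m * c))) : False := by
  have key : ∀ c, Cc L A N c → Cc L A N (m * c) → ∃ g ∈ L, A g = 1 ∧
      N g = (l ^ 2 * (m ^ 2 + m) * c) • vecMulVec ![1, 0] ![1, 0] := fun c h3 h4 => by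
    obtain ⟨g, hg, e1, e2⟩ := h.zeta h2 h3
    obtain ⟨k, hk, e3, e4⟩ := h.zeta h1 h4
    refine ⟨_, L.mul_mem hg hk, by simp [h.A_mul _ hg _ hk, e1, e3], ?_⟩
    rw [h.N_mul _ hg _ hk, e1, e2, e4]
    ext i j
    fin_cases i <;> fin_cases j <;> simp [vecMulVec_apply] <;> grind
  obtain ⟨g, hg, e1, e2⟩ := key c h3 h4
  obtain ⟨k, hk, e3, e4⟩ := key _ h4 h5
  have := h.T g hg k hk e1 e3 _ _ _ (by simp) (by grind) (by grind) e2 e4
  grind

variable [Finite G] [IsSimpleGroup G] (hG : ¬ IsMulCommutative G)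
include hG

omit [CharP F 2] in
theorem exists_ne : ∃ d ∈ (S : Subgroup G), IsConj t d ∧ d ≠ t := by
  by_contra! h1
  have hO : Cfsg.pPrimeCore 2 G = ⊥ := by
    have := Core.pPrimeCore_characteristic 2 G
    refine (IsSimpleGroup.eq_bot_or_eq_top_of_normal _ inferInstance).resolve_right fun e => ?_
    have h2 := Core.coprime_card_pPrimeCore 2 G
    rw [e, card_top] at h2
    exact absurd (h2.coprime_dvd_left (h.ord ▸ _root_.orderOf_dvd_natCard t)) (by decide)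
  have h2 := ZStarApp.mem_center_of_weaklyClosed hO S h.mem fun g hg =>
    h1 _ hg (isConj_iff.2 ⟨g, rfl⟩)
  rcases IsSimpleGroup.eq_bot_or_eq_top_of_normal (center G) inferInstance with e | e
  · exact ne_one_of_ord h.ord (by simpa [e] using h2)
  · exact hG ⟨⟨fun a b => mem_center_iff.1 (e ▸ mem_top b) a⟩⟩

theorem exists_two : ∃ x y, Y S N t x ∧ Y S N t y ∧ x 0 * y 1 + x 1 * y 0 ≠ 0 := by
  obtain ⟨d, h1, h2, h3⟩ := h.exists_ne hG
  obtain ⟨h4, x, hx⟩ := h.tv d h1 h2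
  obtain ⟨h5, y, hy⟩ := h.tv t h.mem (IsConj.refl t)
  have h6 : Y S N t x := ⟨d, h1, h2, hx⟩
  have h7 : Y S N t y := ⟨t, h.mem, IsConj.refl t, hy⟩
  exact ⟨x, y, h6, h7, fun e => h3 (h.eq_of (h.le h1) (h.le h.mem) h4 h5 (by
    rw [hx, hy, h.R_eq (h.Y_R h6) (h.Y_R h7) e]))⟩

theorem trans {x y : Fin 2 → F} (hx : Y S N t x) (hy : Y S N t y) : ∃ g ∈ L, A g *ᵥ x = y := by
  obtain ⟨d, h1, h2, h3⟩ := hx
  obtain ⟨d', h4, h5, h6⟩ := hy
  let D : Set G := {d | d ∈ (S : Subgroup G) ∧ IsConj t d}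
  have hW : closure D ≤ S := (closure_le _).2 fun _ hd => hd.1
  have hc : ∀ d ∈ D, d ∈ centralizer (closure D : Set G) := fun d hd => by
    rw [centralizer_closure]
    exact fun e he => h.comm (h.le he.1) (h.le hd.1) (h.tv e he.1 he.2).1 (h.tv d hd.1 hd.2).1
  obtain ⟨k, rfl⟩ := isConj_iff.1 (h2.symm.trans h5)
  obtain ⟨n, hn, e⟩ := Cfsg.Agent.S1243.result S (closure D) ⟨hW, fun g hg =>
    eq_of_le_of_card_ge (by
      rw [MonoidHom.map_closure, closure_le]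
      rintro _ ⟨e, he, rfl⟩
      exact subset_closure ⟨hg ⟨e, subset_closure he, rfl⟩, he.2.trans (isConj_iff.2 ⟨g, rfl⟩)⟩)
      (card_cj g _).ge⟩ d k (hc d ⟨h1, h2⟩) (hc _ ⟨h4, h5⟩)
  obtain ⟨d₀, h7, h8, h9⟩ := h.exists_ne hG
  have hL := h.nL n d₀ h7 t h.mem h8 (IsConj.refl t) h9
    (hW (conj_mem_of_mem_normalizer hn (subset_closure ⟨h7, h8⟩)))
    (hW (conj_mem_of_mem_normalizer hn (subset_closure ⟨h.mem, IsConj.refl t⟩)))
  refine ⟨n, hL, ?_⟩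
  rw [← e, (h.conj hL (h.le h1) (h.tv d h1 h2).1).2, h3, mul_vv] at h6
  ext i
  have := congrFun (congrFun h6 i) i
  simp only [vecMulVec_apply] at this
  grind

theorem chi (p r : F) (b : F) (hS : ∀ s ∈ (S : Subgroup G), p * A s 0 1 ^ 2 + b * A s 0 1 = 0)
    (hL : ∀ g ∈ L, ∀ y : Fin 2 → F, p * (A g *ᵥ y) 0 ^ 2 + b * ((A g *ᵥ y) 0 * (A g *ᵥ y) 1) +
      r * (A g *ᵥ y) 1 ^ 2 = p * y 0 ^ 2 + b * (y 0 * y 1) + r * y 1 ^ 2)
    {y : Fin 2 → F} (hy : Y S N t y) : p * y 0 ^ 2 + b * (y 0 * y 1) + r * y 1 ^ 2 = 0 := by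
  let ϕ : (S : Subgroup G) →* Multiplicative F := MonoidHom.mk'
    (fun s => Multiplicative.ofAdd (p * N s 0 0 + b * N s 0 1 + r * N s 1 1)) fun s s' => by
      have h1 := hS s s.2
      have h2 := h.symm s' (h.le s'.2)
      rw [← ofAdd_add, coe_mul, h.N_mul _ (h.le s.2) _ (h.le s'.2), h.uni s s.2]
      congr 1
      simp [mul_apply, vecMul, dotProduct]
      grind
  have h1 := Transfer.transfer_mul_inv_pow_mem_of_prime ϕ ⊥ Nat.prime_two t h.ord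
    (Multiplicative.ofAdd (p * y 0 ^ 2 + b * (y 0 * y 1) + r * y 1 ^ 2))
    (by rw [mem_bot, ← ofAdd_nsmul, two_nsmul, CharTwo.add_self_eq_zero]; rfl) fun k hk => by
      have h2 : IsConj t (k⁻¹ * t * k) := isConj_iff.2 ⟨k⁻¹, by simp⟩
      obtain ⟨x, hx⟩ := (h.tv _ hk h2).2
      obtain ⟨g, hg, rfl⟩ := h.trans hG hy ⟨_, hk, h2, hx⟩
      rw [mem_bot, mul_inv_eq_one, ← hL g hg y]
      exact congrArg Multiplicative.ofAdd (by simp only [hx, vecMulVec_apply]; ring)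
  obtain ⟨m, hm⟩ := Nat.odd_iff.2 (Nat.two_dvd_ne_zero.1 S.not_dvd_index)
  rw [(qs_of_simple hG).hom_eq_one, one_mul, mem_bot, inv_eq_one, hm, ← ofAdd_nsmul, ofAdd_eq_one,
    nsmul_eq_mul] at h1
  simpa [CharTwo.two_eq_zero] using h1

theorem exists_Cc : ∃ y, Y S N t y ∧ y 1 ≠ 0 ∧ Cc L A N (y 1 ^ 2) := by
  obtain ⟨x, y, h1, h2, h3⟩ := h.exists_two hG
  obtain ⟨z, h4, h5⟩ : ∃ z, Y S N t z ∧ z 1 ≠ 0 := by
    by_contra! h4
    simp [h4 x h1, h4 y h2] at h3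
  obtain ⟨-, d, h6, h7, h8⟩ := h.Y_R h4
  exact ⟨z, h4, h5, d, h6, h7, by simp [h8, vecMulVec_apply, sq]⟩

variable [Finite F]

theorem not_tri {l : F} (hl : Lam L A l) (hl0 : l ≠ 0) (hL : ∀ g ∈ L, A g 1 0 = 0) : False := by
  obtain ⟨y, h1, h2, h3⟩ := h.exists_Cc hG
  by_cases hb : ∀ g ∈ L, A g 1 1 = 1
  · simpa [h2] using h.chi hG 0 1 0 (by simp)
      (fun g hg y => by simp [mulVec, dotProduct, hL g hg, hb g hg]) h1
  push Not at hb
  obtain ⟨g, hg, hb⟩ := hb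
  have hd := h.det_ne hg
  rw [det_fin_two, hL g hg, mul_zero, sub_zero, mul_ne_zero_iff] at hd
  have hp : ∀ n : ℕ, A (g ^ n) 0 0 = A g 0 0 ^ n ∧ A (g ^ n) 1 1 = A g 1 1 ^ n := fun n => by
    induction n with
    | zero => simp [h.A_one]
    | succ n ih =>
      simp [pow_succ, h.A_mul _ (L.pow_mem hg n) _ hg, mul_apply, ih, hL g hg, hL _ (L.pow_mem hg n)]
  let ζ : Fˣ := Units.mk0 (A g 0 0 / A g 1 1) (div_ne_zero hd.1 hd.2)
  have h4 : (A g 0 0 / A g 1 1) ^ orderOf ζ = 1 := congrArg Units.val (pow_orderOf_eq_one ζ)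
  rw [div_pow, div_eq_one_iff_eq (pow_ne_zero _ hd.2)] at h4
  have h5 := L.pow_mem hg (orderOf ζ)
  have h6 := h.scalar (L.mul_mem h5 h5) (a := (A g 1 1 ^ orderOf ζ) ^ 2) (by
    rw [h.A_mul _ h5 _ h5]
    ext i j
    fin_cases i <;> fin_cases j <;> simp [mul_apply, hp, h4, hL _ h5] <;> grind)
  have : NeZero (orderOf ζ) := ⟨(orderOf_pos ζ).ne'⟩
  obtain ⟨i, -, hi⟩ := (IsPrimitiveRoot.coe_units_iff.2 (IsPrimitiveRoot.orderOf ζ)).eq_pow_of_pow_eq_one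
    (ξ := A g 1 1 ^ 2) (by rwa [← pow_mul, mul_comm, pow_mul])
  have h7 : ∀ n : ℕ, Lam L A ((ζ : F) ^ n * l) := fun n => by
    induction n with
    | zero => simpa
    | succ n ih =>
      obtain ⟨k, hk, e⟩ := ih
      refine ⟨_, L.mul_mem (L.mul_mem hg hk) (L.inv_mem hg), ?_⟩
      rw [← (isUnit_iff_isUnit_det _).2 (h.det_ne hg).isUnit |>.mul_left_inj, h.A_conj hg hk, e]
      have := hd.2
      ext i j
      fin_cases i <;> fin_cases j <;> simp [mul_apply, hL g hg, ζ, pow_succ]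
      grind
  have h8 : ∀ c, Cc L A N c → Cc L A N (A g 1 1 ^ 2 * c) := by
    rintro _ ⟨d, hd, e, rfl⟩
    refine ⟨_, L.mul_mem (L.mul_mem hg hd) (L.inv_mem hg), (h.conj hg hd e).1, ?_⟩
    simp [(h.conj hg hd e).2, mul_apply, hL g hg]
    ring
  exact h.zed hl (hi ▸ h7 i) hl0 (pow_ne_zero _ hd.2) (by grind) (pow_ne_zero _ h2) h3 (h8 _ h3)
    (h8 _ (h8 _ h3))

theorem lam_eq {g : G} (hg : g ∈ L) (hr : A g 1 0 ≠ 0) {l m : F} (hl : Lam L A l) (hl0 : l ≠ 0)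
    (hm : Lam L A m) (hm0 : m ≠ 0) : m = l := by
  obtain ⟨y, -, h2, h3⟩ := h.exists_Cc hG
  let P : Submonoid F :=
    { carrier := {a | ∀ c, Cc L A N c → Cc L A N (a * c)}
      mul_mem' := fun {a b} ha hb c hc => mul_assoc a b c ▸ ha _ (hb c hc)
      one_mem' := fun c hc => by simpa }
  have h4 : ∀ l, Lam L A l → (A g 1 0 * l) ^ 2 ∈ P := fun l hl c hc => by
    obtain ⟨d, hd, e1, e2⟩ := h.zeta hl hc
    refine ⟨_, L.mul_mem (L.mul_mem hg hd) (L.inv_mem hg), (h.conj hg hd e1).1, ?_⟩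
    simp [(h.conj hg hd e1).2, mul_apply, e2]
    grind
  have h5 : m / l ∈ P := by
    convert mul_mem (mem_of_sq_mem P (h4 m hm)).1 (mem_of_sq_mem P (h4 l hl)).2 using 1
    field_simp
  by_contra h6
  exact h.zed hl (m := m / l) (by rwa [div_mul_cancel₀ _ hl0]) hl0 (div_ne_zero hm0 hl0)
    (fun e => h6 (by grind)) (pow_ne_zero _ h2) h3 (h5 _ h3) (h5 _ (h5 _ h3))

omit hG [IsSimpleGroup G] [Finite F] in
theorem det_eq {s : G} (hs : s ∈ (S : Subgroup G)) (h0 : A s 0 1 ≠ 0)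
    (hl : ∀ s' ∈ (S : Subgroup G), A s' 0 1 = 0 ∨ A s' 0 1 = A s 0 1) {g : G} (hg : g ∈ L) :
    (A g).det = 1 := by
  let K : Subgroup G :=
    { carrier := {k | k ∈ L ∧ (A k).det = 1}
      mul_mem' := fun {a b} ha hb => ⟨L.mul_mem ha.1 hb.1, by
        rw [h.A_mul _ ha.1 _ hb.1, det_mul, ha.2, hb.2, mul_one]⟩
      one_mem' := ⟨L.one_mem, by simp [h.A_one]⟩
      inv_mem' := fun {a} ha => ⟨L.inv_mem ha.1, by simpa [ha.2] using congrArg det (h.A_inv ha.1)⟩ }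
  have h1 : (S : Subgroup G) ≤ K := fun x hx => ⟨h.le hx, by rw [h.uni x hx]; simp⟩
  have h2 : cj g S ≤ K := cj_le_iff.2 fun x hx =>
    ⟨L.mul_mem (L.mul_mem hg (h.le hx)) (L.inv_mem hg), by
      simpa [(h1 hx).2, h.det_ne hg] using congrArg det (h.A_conj hg (h.le hx))⟩
  obtain ⟨k, hk, e⟩ := (((IsSylowIn.of_sylow_top S).cj_of_mem (mem_top g)).of_le h2
    le_top).exists_cj_eq ((IsSylowIn.of_sylow_top S).of_le h1 le_top)
  rw [← cj_mul] at e
  have h3 := L.mul_mem hk.1 hg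
  have h4 := cj_le_iff.1 e.le s hs
  have h5 := h.A_conj h3 (h.le hs)
  have h6 := h.det_ne h3
  have h7 : (A (k * g)).det = (A g).det := by rw [h.A_mul _ hk.1 _ hg, det_mul, hk.2, one_mul]
  rw [← h7]
  generalize k * g = n at h3 h4 h5 h6
  rw [h.uni _ h4, h.uni _ hs] at h5
  have e1 := congrFun (congrFun h5 0) 1
  have e2 := congrFun (congrFun h5 1) 1
  simp [mul_apply] at e1 e2
  rw [det_fin_two] at h6 ⊢
  have e3 : A n 1 0 = 0 := by grind
  have e4 : A n 0 0 = A n 1 1 := by rcases hl _ h4 with e | e <;> grind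
  have := h.scalar (L.mul_mem h3 h3) (a := A n 1 1 ^ 2) (by
    rw [h.A_mul _ h3 _ h3]
    ext i j
    fin_cases i <;> fin_cases j <;> simp [mul_apply, e3, e4] <;> grind)
  grind

theorem false_of_ne {s : G} (hs : s ∈ (S : Subgroup G)) (h0 : A s 0 1 ≠ 0) : False := by
  classical
  have hlam : ∀ s ∈ (S : Subgroup G), Lam L A (A s 0 1) := fun s hs => ⟨s, h.le hs, h.uni s hs⟩
  by_cases hL : ∀ g ∈ L, A g 1 0 = 0
  · exact h.not_tri hG (hlam s hs) h0 hL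
  push Not at hL
  obtain ⟨g, hg, hr⟩ := hL
  have hl : ∀ s' ∈ (S : Subgroup G), A s' 0 1 = 0 ∨ A s' 0 1 = A s 0 1 := fun s' hs' =>
    or_iff_not_imp_left.2 (h.lam_eq hG hg hr (hlam s hs) h0 (hlam s' hs'))
  have hdet : ∀ k ∈ L, A k 0 0 * A k 1 1 - A k 0 1 * A k 1 0 = 1 := fun k hk => by
    rw [← det_fin_two, h.det_eq hs h0 hl hk]
  let q : (Fin 2 → F) → F := fun y => (A s 0 1)⁻¹ * y 0 ^ 2 + y 0 * y 1
  have := Fintype.ofFinite (L ⧸ (S : Subgroup G).subgroupOf L)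
  let Q : (Fin 2 → F) → F := fun y =>
    ∑ c : L ⧸ (S : Subgroup G).subgroupOf L, q (A (c.out : L)⁻¹ *ᵥ y)
  have h1 : ∀ k ∈ L, ∀ y, Q (A k *ᵥ y) = Q y := fun k hk y => by
    refine Eq.trans (Finset.sum_congr rfl fun c _ => ?_)
      (sum_out_mul _ (fun x : L => q (A (x : G)⁻¹ *ᵥ y)) (fun x z hz => ?_) ⟨k, hk⟩⁻¹)
    · rw [mulVec_mulVec, ← h.A_mul _ (L.inv_mem c.out.2) _ hk]
      simp only [coe_mul, coe_inv, _root_.mul_inv_rev, inv_inv]
    · have hz' : (z : G)⁻¹ ∈ (S : Subgroup G) := (S : Subgroup G).inv_mem hz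
      simp only [coe_mul, _root_.mul_inv_rev]
      rw [h.A_mul _ (h.le hz') _ (L.inv_mem x.2), ← mulVec_mulVec, h.uni _ hz']
      generalize A (x : G)⁻¹ *ᵥ y = w
      rcases hl _ hz' with e | e <;> simp [q, e, mulVec, dotProduct]
      grind
  have h2 : ∀ y, Q y = Q ![1, 0] * y 0 ^ 2 + 1 * (y 0 * y 1) + Q ![0, 1] * y 1 ^ 2 := fun y => by
    obtain ⟨m, hm⟩ := Nat.odd_iff.2 (Nat.two_dvd_ne_zero.1 (IsSylowIn.of_sylow S h.le).not_dvd)
    have h3 : (1 : F) = ∑ c : L ⧸ (S : Subgroup G).subgroupOf L, 1 := by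
      rw [Finset.sum_const, Finset.card_univ, ← Nat.card_eq_fintype_card, ← index_eq_card,
        ← relIndex, hm]
      simp [CharTwo.two_eq_zero]
    nth_rw 2 [h3]
    simp only [Q, Finset.sum_mul, ← Finset.sum_add_distrib]
    refine Finset.sum_congr rfl fun c _ => ?_
    have := hdet _ (L.inv_mem c.out.2)
    simp [q, mulVec, dotProduct]
    grind
  generalize Q ![1, 0] = p, Q ![0, 1] = r at h2
  have h3 : ∀ s' ∈ (S : Subgroup G), p * A s' 0 1 ^ 2 + 1 * A s' 0 1 = 0 := fun s' hs' => by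
    have := h1 s' (h.le hs') ![0, 1]
    rw [h2, h2, h.uni _ hs'] at this
    simpa [mulVec, dotProduct] using this
  obtain ⟨y, h4, h5, -⟩ := h.exists_Cc hG
  have h6 := h.chi hG p r 1 h3 (fun k hk y => by rw [← h2, ← h2, h1 k hk]) h4
  have h7 := h.Y_R h4
  have h8 := h.R_mul h7 (h.le hs)
  have key : ∀ x, R L A N x → Q x = 0 → A g *ᵥ x = y ∨ A g *ᵥ x = A s *ᵥ y := fun x hx hq => by
    have e1 := h1 g hg x
    have e2 := h1 s (h.le hs) y
    have e3 := h.R_eq (h.R_mul hx hg) h7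
    have e4 := h.R_eq (h.R_mul hx hg) h8
    rw [hq, h2] at e1
    rw [h2 y, h6, h2] at e2
    have e5 : (A s *ᵥ y) 0 = y 0 + A s 0 1 * y 1 ∧ (A s *ᵥ y) 1 = y 1 := by
      rw [h.uni s hs]; simp [mulVec, dotProduct]
    by_contra! h9
    have e6 := mt e3 h9.1
    have e7 := mt e4 h9.2
    grind
  have h9 : A g *ᵥ (y + A s *ᵥ y) = y + A s *ᵥ y := by
    have hi : ∀ a b, A g *ᵥ a = A g *ᵥ b → a = b := fun a b e => by
      rw [← one_mulVec a, ← one_mulVec b, ← h.A_inv hg, ← mulVec_mulVec, e, mulVec_mulVec]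
    have hne : y ≠ A s *ᵥ y := fun e => by
      have := congrFun e 0
      rw [h.uni s hs] at this
      simp [mulVec, dotProduct, h0, h5] at this
    rw [mulVec_add]
    rcases key y h7 ((h2 y).trans h6) with e | e <;>
      rcases key _ h8 ((h1 s (h.le hs) y).trans ((h2 y).trans h6)) with e' | e'
    exacts [(hne (hi _ _ (e.trans e'.symm))).elim, by rw [e, e'], by rw [e, e', add_comm],
      (hne (hi _ _ (e.trans e'.symm))).elim]
  have := congrFun h9 1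
  rw [h.uni s hs] at this
  simp [mulVec, dotProduct] at this
  grind

theorem false_of_ab (hc : IsMulCommutative (S : Subgroup G) →
    ∀ x y : G, orderOf x = 2 → orderOf y = 2 → IsConj x y) : False := by
  have h1 : ∀ s ∈ (S : Subgroup G), A s = 1 := fun s hs => by
    rw [h.uni s hs, not_not.1 (h.false_of_ne hG hs), one_fin_two]
  have h2 : ∀ a ∈ (S : Subgroup G), ∀ b ∈ (S : Subgroup G), a * b = b * a := fun a ha b hb =>
    h.comm (h.le ha) (h.le hb) (h1 a ha) (h1 b hb)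
  obtain ⟨x, y, ⟨a, ha, ha1, ha2⟩, ⟨b, hb, hb1, hb2⟩, h3⟩ := h.exists_two hG
  have e := h.N_mul _ (h.le ha) _ (h.le hb)
  rw [h1 a ha, ha2, hb2] at e
  have sq : ∀ a, IsConj t a → a * a = 1 := fun a ha => by
    obtain ⟨k, rfl⟩ := isConj_iff.1 ha
    rw [conj_mul, sq_of_ord h.ord]; simp
  have key : ∀ z : Fin 2 → F, N (a * b) ≠ vecMulVec z z := fun z hz => by
    rw [hz] at e
    have e1 := congrFun (congrFun e 0) 0
    have e2 := congrFun (congrFun e 0) 1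
    have e3 := congrFun (congrFun e 1) 1
    simp [vecMulVec_apply] at e1 e2 e3
    grind
  obtain ⟨z, hz⟩ := (h.tv _ (mul_mem ha hb) (hc ⟨⟨fun a b => Subtype.ext (h2 _ a.2 _ b.2)⟩⟩ _ _ h.ord
    (ord_two (by rw [mul_assoc, ← mul_assoc b, ← h2 a ha b hb, mul_assoc, sq b hb1, mul_one, sq a ha1])
      fun e1 => key 0 (by simp [e1, h.N_one])))).2
  exact key z hz

end Dat

end CfsgLib.Dim4.TR
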