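import Mathlib
import Cfsg.Agent.Lib.Dim4.Defs
import Cfsg.Agent.Lib.Dim4.TR1
import Cfsg.Agent.Lib.ClDeg.SpGeo
import Cfsg.Agent.Lib.Transfer.Thompson
import Cfsg.Agent.Lib.WCor.Alt
import Cfsg.Agent.Lib.WAb.Str
import Cfsg.Agent.Lib.Ward.Frame
import Cfsg.Agent.Lib.Block.Klein2
import Cfsg.Agent.Lib.Abel2.Good2
import Cfsg.Agent.Lib.Perm.PermModule
import Cfsg.Agent.S0506

/-!
DIM4, package TR: root groups of order two are impossible in characteristic two.  See `plans/DIM4.md`.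
-/

set_option autoImplicit false

namespace CfsgLib.Dim4

open Matrix Cfsg Cfsg.Geo CfsgLib.Asch CfsgLib.Forms CfsgLib.Symp Subgroup
open scoped MatrixGroups commutatorElement

variable {G F : Type*} [Group G] [Finite G] [Field F] {ρ : G →* Sp4 F}

/-- a simple group with abelian Sylow `2`-subgroups has one class of involutions -/
theorem isConj_of_ab2 [IsSimpleGroup G] (hG : ¬ IsMulCommutative G) (S : Sylow 2 G)
    (hS : IsMulCommutative (S : Subgroup G)) {x y : G} (hx : orderOf x = 2) (hy : orderOf y = 2) :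
    IsConj x y := by
  have h2 := (qs_of_simple hG).index_ne_two
  have h8 : ∀ m, Odd m → Nat.card G = 2 ^ 3 * m → IsConj x y := fun m hm e =>
    WCor.isConj_of_eight (WAb.ab2_of_sylow S hS) (Transfer.pResidual_two_eq_top_iff.2 h2)
      (fun P => by
        rw [P.card_eq_multiplicity, e, Nat.factorization_mul (by norm_num) hm.pos.ne',
          Finsupp.add_apply, Nat.factorization_eq_zero_of_not_dvd hm.not_two_dvd_nat,
          Nat.prime_two.factorization_pow]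
        simp) hx hy
  rcases Cfsg.Agent.S0506.result hG S hS with ⟨a, ha, K, _, _, hK, ⟨e⟩⟩ | ⟨K, _, _, hK, ⟨e⟩⟩ |
    ⟨-, m, -, hm⟩ | ⟨-, hm⟩
  · have : CharP K 2 := by
      have h := FiniteField.even_card_iff_char_two.2 (show Fintype.card K % 2 = 0 by
        rw [hK]; exact Nat.even_iff.1 (Nat.even_pow.2 ⟨even_two, by omega⟩))
      exact h ▸ ringChar.charP K
    simpa using e.symm.toMonoidHom.map_isConj (Abel2.even_isConj (a := e x) (b := e y)
      (by rw [MulEquiv.orderOf_eq, hx]) (by rw [MulEquiv.orderOf_eq, hy]))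
  · obtain ⟨m, hm, e1⟩ := Ward.card_psl_four_mul (Or.inr hK)
    rw [← Nat.card_congr e.toEquiv] at e1
    refine (Block.klein_setup hm e1 ?_ S).2 x y hx hy
    rintro ⟨N, hN, e2⟩
    rcases IsSimpleGroup.eq_bot_or_eq_top_of_normal N hN with rfl | rfl
    · rw [card_bot] at e2
      have : IsMulCommutative G := IsPGroup.isMulCommutative_of_card_eq_prime_sq (p := 2)
        (by rw [e1, ← e2]; rfl)
      exact hG this
    · rw [card_top, e1] at e2
      have := hm.pos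
      omega
  · obtain ⟨k, hk⟩ : ∃ k, 3 ^ (2 * m + 1) = 8 * k + 3 := ⟨3 ^ (2 * m + 1) / 8, by
      have : 3 ^ (2 * m + 1) % 8 = 3 := by simp [pow_succ, pow_mul, Nat.mul_mod, Nat.pow_mod]
      omega⟩
    refine h8 ((8 * k + 3) ^ 3 * (2 * (64 * k ^ 3 + 72 * k ^ 2 + 27 * k + 3) + 1) * (2 * (2 * k) + 1))
      (((Odd.pow ⟨4 * k + 1, by ring⟩).mul ⟨_, rfl⟩).mul ⟨_, rfl⟩) ?_
    rw [hm, hk, show 8 * k + 3 - 1 = 8 * k + 2 from rfl]
    ring
  · exact h8 21945 (by decide) hm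

namespace TR

/-- the basis of the Lagrangian subspace -/
abbrev eb (F : Type*) [Field F] (i : Fin 2) : V4 F := Pi.single (.inl i) 1

theorem exists_flag [CharP F 2] (ρ : G →* Sp4 F) {S : Subgroup G} (hS : IsPGroup 2 S) :
    ∃ P : Sp4 F, ∀ s ∈ S, ρ s • P • eb F 0 = P • eb F 0 ∧
      ∃ c : F, ρ s • P • eb F 1 = P • eb F 1 + c • P • eb F 0 := by
  let τ : Representation F S (V4 F) :=
    (toLinAlgEquiv' : M4 F ≃ₐ[F] _).toMonoidHom.comp ((Submonoid.subtype _).comp (ρ.comp S.subtype))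
  have hτ : ∀ s v, τ s v = ρ s • v := fun _ _ => rfl
  obtain ⟨x, -, hx, h1⟩ := Perm.exists_fixed_of_isPGroup hS τ ⊤ (fun _ _ _ => trivial) top_ne_bot
  have h2 := (B4.flip x).finrank_range_add_finrank_ker
  have h3 := (LinearMap.range (B4.flip x)).finrank_le
  rw [finrank_V4] at h2
  rw [Module.finrank_self] at h3
  obtain ⟨_, ⟨y, hy, rfl⟩, h4, h5⟩ := Perm.exists_fixed_of_isPGroup hS
    (τ.quotient (F ∙ x) fun s => by simp [h1]) ((LinearMap.ker (B4.flip x)).map (F ∙ x).mkQ) (by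
      rintro s _ ⟨v, hv, rfl⟩
      refine ⟨τ s v, ?_, rfl⟩
      change B4 (τ s v) x = 0
      rw [← h1 s, hτ, hτ, B4_smul]; exact hv) (fun e => by
      rw [← LinearMap.le_ker_iff_map, Submodule.ker_mkQ] at e
      have := Submodule.finrank_mono e
      rw [finrank_span_singleton hx] at this
      omega)
  have hy : B4 y x = 0 := hy
  obtain ⟨g, hg, hgv⟩ := witt_alt_family (spB _ F) (spB_nondegenerate _ F) (spB_isAlt _ F)
    ![eb F 0, eb F 1] ![x, y] (linearIndependent_pair_of_not_mem (by simp) fun e => by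
      obtain ⟨t, ht⟩ := Submodule.mem_span_singleton.1 e
      simpa using congrFun ht (.inl 1))
    (linearIndependent_pair_of_not_mem hx fun e => h4 ((Submodule.Quotient.mk_eq_zero _).2 e)) (by
      intro a b
      fin_cases a <;> fin_cases b <;>
        simp [spB_self, hy, ClDeg.spB_symm hy, spB_eq_sum _ _ (Pi.single _ _)])
  obtain ⟨P, hP⟩ := exists_sp_of_linearMap g.toLinearMap ((spPQ_isIso _ F _).2 hg)
  have e0 : P • eb F 0 = x := (hP _).trans (hgv 0)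
  have e1 : P • eb F 1 = y := (hP _).trans (hgv 1)
  refine ⟨P, fun s hs => ⟨e0 ▸ h1 ⟨s, hs⟩, ?_⟩⟩
  obtain ⟨c, hc⟩ := Submodule.mem_span_singleton.1 ((Submodule.Quotient.eq _).1 (h5 ⟨s, hs⟩))
  exact ⟨c, by rw [e0, e1, hc, hτ]; simp⟩

omit [Finite G] in
theorem blocks (M : Sp4 F) : M.1.toBlocks₁₂ * M.1.toBlocks₁₁ᵀ = M.1.toBlocks₁₁ * M.1.toBlocks₁₂ᵀ ∧
    M.1.toBlocks₂₂ * M.1.toBlocks₁₁ᵀ = 1 + M.1.toBlocks₂₁ * M.1.toBlocks₁₂ᵀ := by
  have h := SymplecticGroup.mem_iff.1 M.2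
  rw [← fromBlocks_toBlocks M.1, J, fromBlocks_transpose, fromBlocks_multiply, fromBlocks_multiply,
    fromBlocks_inj] at h
  simp only [Matrix.mul_zero, Matrix.mul_one, zero_add, add_zero, Matrix.mul_neg, Matrix.neg_mul] at h
  exact ⟨by rw [← sub_eq_zero, sub_eq_add_neg, h.1], by rw [← h.2.2.1]; abel⟩

theorem mul_blocks (M M' : Sp4 F) (h : M.1.toBlocks₂₁ = 0) (h' : M'.1.toBlocks₂₁ = 0) :
    (M * M').1 = fromBlocks (M.1.toBlocks₁₁ * M'.1.toBlocks₁₁)
      (M.1.toBlocks₁₁ * M'.1.toBlocks₁₂ + M.1.toBlocks₁₂ * M'.1.toBlocks₂₂) 0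
      (M.1.toBlocks₂₂ * M'.1.toBlocks₂₂) := by
  conv_lhs => rw [Submonoid.coe_mul, ← fromBlocks_toBlocks M.1, ← fromBlocks_toBlocks M'.1, h, h',
    fromBlocks_multiply]
  simp

variable (ρ) in
/-- the stabiliser of the Lagrangian subspace -/
def lag : Subgroup G where
  carrier := {g | (ρ g).1.toBlocks₂₁ = 0}
  mul_mem' {a b} ha hb := by
    change (ρ (a * b)).1.toBlocks₂₁ = 0
    rw [map_mul, mul_blocks _ _ ha hb, toBlocks_fromBlocks₂₁]
  one_mem' := by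
    change (ρ 1).1.toBlocks₂₁ = 0
    rw [map_one, OneMemClass.coe_one, ← fromBlocks_one, toBlocks_fromBlocks₂₁]
  inv_mem' {a} ha := by
    have key : ∀ (M : Sp4 F) i j, B4 (M • eb F j) (eb F i) = M.1.toBlocks₂₁ i j := fun M i j => by
      fin_cases i <;> simp [B4_apply, sp_smul_def, toBlocks₂₁]
    ext i j
    rw [← key, map_inv, B4_inv, inv_inv, spB_comm, key, show (ρ a).1.toBlocks₂₁ = 0 from ha]
    simp

theorem spT_blocks (y : Fin 2 → F) (c : F) :
    (spT (Sum.elim y 0) c : Sp4 F).1 = fromBlocks 1 (c • vecMulVec y y) 0 1 := by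
  rw [ClDeg.spT_elim]; rfl

theorem core [Finite F] [CharP F 2] [IsSimpleGroup G] (hG : ¬ IsMulCommutative G)
    (hρ : Function.Injective ρ) (S : Sylow 2 G)
    (hS : ∀ s ∈ (S : Subgroup G), ρ s • eb F 0 = eb F 0 ∧ ∃ c : F, ρ s • eb F 1 = eb F 1 + c • eb F 0)
    {t : G} (ht : t ∈ (S : Subgroup G)) {u : V4 F} {d : F} (hu : u ≠ 0) (hd : d ≠ 0)
    (e : ρ t = spT u d)
    (hT : ∀ (v : V4 F) (d e : F), v ≠ 0 → d ≠ 0 → e ≠ 0 → Tv ρ v d → Tv ρ v e → e = d) : False := by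
  have h1 : ∀ s ∈ (S : Subgroup G), s ∈ lag ρ ∧
      (ρ s).1.toBlocks₁₁ = !![1, (ρ s).1.toBlocks₁₁ 0 1; 0, 1] := fun s hs => by
    obtain ⟨h2, c, h3⟩ := hS s hs
    have h4 := congrFun h2
    have h5 := congrFun h3
    simp [sp_smul_def] at h4 h5
    constructor
    · ext i j; fin_cases i <;> fin_cases j <;> simp [toBlocks₂₁, h4, h5]
    · ext i j; fin_cases i <;> fin_cases j <;> simp [toBlocks₁₁, h4, h5]
  have h2 : ∀ g ∈ lag ρ, (ρ g).1.toBlocks₁₁ = 1 → (ρ g).1 =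
      fromBlocks 1 ((ρ g).1.toBlocks₁₂ * (ρ g).1.toBlocks₁₁ᵀ) 0 1 := fun g hg h => by
    have h3 := (blocks (ρ g)).2
    have hg : (ρ g).1.toBlocks₂₁ = 0 := hg
    conv_lhs => rw [← fromBlocks_toBlocks (ρ g).1]
    simp only [h, hg, transpose_one, Matrix.mul_one, Matrix.zero_mul, add_zero] at h3 ⊢
    rw [h3]
  obtain ⟨γ, rfl⟩ : ∃ γ, γ ^ 2 = d := surjective_frobenius F 2 d
  have h3 : ∀ k, k * t * k⁻¹ ∈ (S : Subgroup G) → ∃ y : Fin 2 → F, ρ k • γ • u = Sum.elim y 0 ∧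
      ρ (k * t * k⁻¹) = spT (Sum.elim y 0) 1 := fun k hk => by
    have e1 : ρ (k * t * k⁻¹) = spT (ρ k • γ • u) 1 := by
      rw [map_mul, map_mul, map_inv, e, ← conj_spT, spT_smul_left, one_mul]
    obtain ⟨h4, c, h5⟩ := hS _ hk
    rw [e1, spT_smul] at h4 h5
    generalize ρ k • γ • u = w at e1 h4 h5
    have h6 := congrFun h4 (.inr 0)
    have h7 := congrFun h5 (.inr 1)
    simp [B4_apply] at h6 h7
    have : w = Sum.elim (w ∘ .inl) 0 := by
      ext (i | i)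
      · rfl
      · fin_cases i <;> simp [h6, h7]
    exact ⟨_, this, this ▸ e1⟩
  have hγ : γ • u ≠ 0 := smul_ne_zero (by rintro rfl; simp at hd) hu
  refine Dat.false_of_ab (S := S) (L := lag ρ) (A := fun g => (ρ g).1.toBlocks₁₁)
    (N := fun g => (ρ g).1.toBlocks₁₂ * (ρ g).1.toBlocks₁₁ᵀ) (t := t)
    ⟨fun s hs => (h1 s hs).1, ?_, fun g hg k hk => ?_, fun g hg k hk => ?_, fun g _ => ?_,
      fun g hg h4 h5 => hρ (Subtype.ext ?_), fun s hs => (h1 s hs).2,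
      fun g hg k hk h4 h5 y a b hy ha hb h6 h7 => ?_, ?_, ht, fun d hd hc => ?_,
      fun n d hd d' hd' hc hc' hne h4 h5 => ?_⟩ hG fun hc x y => isConj_of_ab2 hG S hc
  · simp only [map_one, OneMemClass.coe_one]
    rw [← fromBlocks_one, toBlocks_fromBlocks₁₁]
  · simp only [map_mul, mul_blocks _ _ hg hk, toBlocks_fromBlocks₁₁]
  · have h4 := (blocks (ρ k)).2
    rw [show (ρ k).1.toBlocks₂₁ = 0 from hk, Matrix.zero_mul, add_zero] at h4
    simp only [map_mul, mul_blocks _ _ hg hk, toBlocks_fromBlocks₁₁, toBlocks_fromBlocks₁₂,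
      transpose_mul, Matrix.add_mul, Matrix.mul_assoc]
    rw [← Matrix.mul_assoc (ρ k).1.toBlocks₂₂, h4, Matrix.one_mul, add_comm]
  · have := congrFun (congrFun (blocks (ρ g)).1 1) 0
    simpa [mul_apply, mul_comm] using this
  · rw [h2 g hg h4, h5, fromBlocks_one, map_one]; rfl
  · refine hT (Sum.elim y 0) b a (fun e => hy (funext fun i => congrFun e (.inl i))) hb ha
      ⟨k, Subtype.ext ?_⟩ ⟨g, Subtype.ext ?_⟩
    · rw [spT_blocks, h2 k hk h5, h7]
    · rw [spT_blocks, h2 g hg h4, h6]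
  · exact W2.ord_two (hρ (by
      rw [map_mul, e, ← spT_add, CharTwo.add_self_eq_zero, spT_zero, map_one]))
      fun e1 => hd ((spT_eq_one_iff hu).1 (by rw [← e, e1, map_one]))
  · obtain ⟨k, rfl⟩ := isConj_iff.1 hc
    obtain ⟨y, -, e1⟩ := h3 k hd
    simp only [e1, spT_blocks, toBlocks_fromBlocks₁₁, toBlocks_fromBlocks₁₂]
    exact ⟨trivial, y, by simp⟩
  · obtain ⟨k, rfl⟩ := isConj_iff.1 hc
    obtain ⟨k', rfl⟩ := isConj_iff.1 hc'
    obtain ⟨y, e1, e2⟩ := h3 k hd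
    obtain ⟨y', e3, e4⟩ := h3 k' hd'
    obtain ⟨z, e5, -⟩ := h3 (n * k) (by simpa [mul_assoc] using h4)
    obtain ⟨z', e6, -⟩ := h3 (n * k') (by simpa [mul_assoc] using h5)
    rw [map_mul, mul_smul, e1] at e5
    rw [map_mul, mul_smul, e3] at e6
    have hdet : y 0 * y' 1 - y 1 * y' 0 ≠ 0 := fun e7 => by
      have hy : (Sum.elim y 0 : V4 F) ≠ 0 := e1 ▸ smul_ne_zero' _ hγ
      obtain ⟨a, rfl⟩ : ∃ a : F, y' = a • y := by
        by_cases h0 : y 0 = 0
        · have h9 : y 1 ≠ 0 := fun e => hy (by ext (i | i) <;> fin_cases i <;> simp [*])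
          refine ⟨y' 1 / y 1, ?_⟩
          ext i; fin_cases i <;> simp <;> grind
        · refine ⟨y' 0 / y 0, ?_⟩
          ext i; fin_cases i <;> simp <;> grind
      have e8 : (Sum.elim (a • y) 0 : V4 F) = a • Sum.elim y 0 := by ext (i | i) <;> simp
      have ha : a ≠ 0 := by
        rintro rfl
        exact smul_ne_zero' _ hγ (by rw [e3, e8, zero_smul])
      rw [e8, spT_smul_left] at e4
      have := hT _ 1 (1 * a ^ 2) hy one_ne_zero (by simpa) ⟨_, e2⟩ ⟨_, e4⟩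
      exact hne (hρ (by rw [e2, e4, this]))
    ext i j
    have e7 := congrFun e5 (.inr i)
    have e8 := congrFun e6 (.inr i)
    simp [sp_smul_def, mulVec, dotProduct] at e7 e8
    fin_cases j <;> simp [toBlocks₂₁] <;> grind

end TR

theorem big_of_tv [Finite F] [CharP F 2] [IsSimpleGroup G] (hG : ¬ IsMulCommutative G)
    (hρ : Function.Injective ρ) {u : V4 F} {d : F} (hu : u ≠ 0) (hd : d ≠ 0) (ht : Tv ρ u d) :
    ∃ (v : V4 F) (d e : F), v ≠ 0 ∧ d ≠ 0 ∧ e ≠ 0 ∧ e ≠ d ∧ Tv ρ v d ∧ Tv ρ v e := by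
  by_contra! hT
  obtain ⟨t, ht⟩ := ht
  obtain ⟨S, hS⟩ := (Tech.isPGroup_zpowers_of_pow (p := 2) (x := t) (k := 1) (hρ (by
    rw [pow_one, sq, map_mul, ht, ← spT_add, CharTwo.add_self_eq_zero, spT_zero,
      map_one]))).exists_le_sylow
  obtain ⟨P, hP⟩ := TR.exists_flag ρ S.isPGroup'
  have key : ∀ v c, Tv ((MulAut.conj P⁻¹).toMonoidHom.comp ρ) v c → Tv ρ (P • v) c := by
    rintro v c ⟨g, hg⟩
    exact ⟨g, by rw [← conj_spT, ← hg]; simp [mul_assoc]⟩
  refine TR.core (ρ := (MulAut.conj P⁻¹).toMonoidHom.comp ρ) hG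
    ((MulAut.conj P⁻¹).injective.comp hρ) S (fun s hs => ?_) (hS (mem_zpowers t))
    (smul_ne_zero' P⁻¹ hu) hd (by rw [← conj_spT, ← ht]; rfl) fun v d e h1 h2 h3 h4 h5 => ?_
  · obtain ⟨h1, c, h2⟩ := hP s hs
    exact ⟨by simp [mul_smul, h1], c, by simp [mul_smul, h2, smul_add', smul_smul']⟩
  · by_contra h6
    exact hT _ d e (smul_ne_zero' P h1) h2 h3 h6 (key _ _ h4) (key _ _ h5)

end CfsgLib.Dim4
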