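import Mathlib
import Cfsg.Agent.Lib.Dim4.TV
import Cfsg.Agent.Lib.Dim4.TR
import Cfsg.Agent.Lib.Dim4.R1
import Cfsg.Agent.Lib.Dim4.X
import Cfsg.Agent.Lib.ClAut.Sp4
import Cfsg.Agent.Lib.CIT.Simple

/-!
DIM4: simple absolutely irreducible subgroups of `Sp₄(2^f)`.  See `plans/DIM4.md`.
-/

set_option autoImplicit false

namespace CfsgLib.Dim4.Ev

open Matrix Cfsg Cfsg.Geo CfsgLib.Asch CfsgLib.Forms CfsgLib.Symp Subgroup CfsgLib.ClAut
open scoped MatrixGroups commutatorElement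

variable {G F : Type*} [Group G] [Field F] [CharP F 2] {ρ : G →* Sp4 F}

theorem tr_star (A : Sp4 F) : (sp4Star F A).1.trace = c2 A.1 := by
  have h := mem_sp4_iff.1 A.2
  have a := Sz.sp_col h 0 3
  have b := Sz.sp_row h 1 2
  have h2 : (2 : F) = 0 := CharTwo.two_eq_zero
  rw [coe_sp4Star, Sz.star4_eq]
  simp [Sz.J, re4] at a b
  simp [Matrix.trace, re4, c2, Fin.sum_univ_two]
  grind

theorem coe_star_star [Finite F] (A : Sp4 F) :
    (sp4Star F (sp4Star F A)).1 = A.1.map (frobeniusEquiv F 2) :=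
  congrArg Units.val (sp4Star_sp4Star (φ := frobeniusEquiv F 2) (fun _ => rfl) A)

theorem star_injective [Finite F] : Function.Injective (sp4Star F) := fun A B h =>
  Subtype.ext (Matrix.map_injective (frobeniusEquiv F 2).injective (by
    simp only [← coe_star_star, h]))

theorem c2_star [Finite F] (A : Sp4 F) : c2 (sp4Star F A).1 = A.1.trace ^ 2 := by
  rw [← tr_star, coe_star_star]
  exact (AddMonoidHom.map_trace (frobeniusEquiv F 2) A.1).symm

section Inv

variable {A : Sp4 F} (hA : A * A = 1)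
include hA

omit [CharP F 2] in
theorem adj (u v : V4 F) : B4 (A • u - u) v = B4 u (A • v - v) := by
  rw [map_sub, map_sub, LinearMap.sub_apply, B4_inv, inv_eq_of_mul_eq_one_right hA]

theorem nn (u : V4 F) : A • (A • u - u) - (A • u - u) = 0 := by
  have h2 : (2 : F) = 0 := CharTwo.two_eq_zero
  rw [smul_sub', ← mul_smul, hA, one_smul]
  ext i; simp only [Pi.sub_apply, Pi.zero_apply]; grind

theorem iso (u v : V4 F) : B4 (A • u - u) (A • v - v) = 0 := by rw [adj hA, nn hA, map_zero]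

theorem f_add (u v : V4 F) :
    B4 (u + v) (A • (u + v) - (u + v)) = B4 u (A • u - u) + B4 v (A • v - v) := by
  have h2 : (2 : F) = 0 := CharTwo.two_eq_zero
  have := adj hA u v
  rw [B4_swap] at this
  rw [smul_add', add_sub_add_comm, B4_add_l, B4_add_r, B4_add_r]
  grind

omit [CharP F 2] in
/-- rank one: a transvection -/
theorem rank_one {e : V4 F} (h1 : A ≠ 1) (h : ∀ v, ∃ c : F, A • v - v = c • e) :
    ∃ (u : V4 F) (d : F), u ≠ 0 ∧ d ≠ 0 ∧ A = spT u d := by
  have he : e ≠ 0 := fun e0 => h1 (sp_ext fun v => by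
    obtain ⟨c, hc⟩ := h v
    rw [e0, smul_zero, sub_eq_zero] at hc
    rw [hc, one_smul])
  obtain ⟨w, hw⟩ := exists_spB_eq_one he
  obtain ⟨d, hd⟩ := h w
  have key : A = spT e (-d) := sp_ext fun v => by
    obtain ⟨c, hc⟩ := h v
    have := adj hA v w
    rw [hc, hd, B4_smul_l, B4_smul_r, B4_swap e w, show B4 w e = 1 from hw] at this
    rw [spT_smul, ← sub_eq_iff_eq_add', hc]
    congr 1
    linear_combination -this
  exact ⟨e, -d, he, fun d0 => h1 (by rw [key, d0, spT_zero]), key⟩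

/-- the short root elements -/
theorem short (h1 : A ≠ 1) {e x : V4 F} (hex : B4 e x = 0)
    (h : ∀ v, ∃ a b : F, A • v - v = a • e + b • x) (hf : ∀ v : V4 F, B4 v (A • v - v) = 0) :
    ∃ (u : V4 F) (d : F), u ≠ 0 ∧ d ≠ 0 ∧ sp4Star F A = spT u d := by
  obtain ⟨g, y, z, hy, hz⟩ := ClDeg.exists_lag (m := 2) le_rfl hex
  obtain ⟨M, hM⟩ : ∃ M, M = g⁻¹ * A * g := ⟨_, rfl⟩
  have hMM : M * M = 1 := by
    rw [hM, show g⁻¹ * A * g * (g⁻¹ * A * g) = g⁻¹ * (A * A) * g by group, hA]; group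
  have e1 : ∀ v : V4 F, M • v - v = g⁻¹ • (A • g • v - g • v) := fun v => by
    rw [smul_sub', inv_smul_smul, hM, mul_smul, mul_smul]
  have h3 : ∀ (v : V4 F) i, (M • v - v) (.inr i) = 0 := fun v i => by
    obtain ⟨a, b, hab⟩ := h (g • v)
    rw [e1, hab, ← hy, ← hz, smul_add', smul_smul', smul_smul', inv_smul_smul, inv_smul_smul]
    simp
  have h4 : ∀ v : V4 F, B4 v (M • v - v) = 0 := fun v => by
    rw [e1, ← B4_inv, hf]
  have k := fun i j => adj hMM (Pi.single i 1) (Pi.single j 1)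
  have l := fun i j => h3 (Pi.single i 1) j
  have a1 := l (.inl 0) 0; have a2 := l (.inl 0) 1; have a3 := l (.inl 1) 0; have a4 := l (.inl 1) 1
  have a5 := l (.inr 0) 0; have a6 := l (.inr 0) 1; have a7 := l (.inr 1) 0; have a8 := l (.inr 1) 1
  have b1 := k (.inl 0) (.inr 0); have b2 := k (.inl 0) (.inr 1); have b3 := k (.inl 1) (.inr 0)
  have b4 := k (.inl 1) (.inr 1); have b5 := k (.inr 0) (.inr 1)
  have b6 := h4 (Pi.single (.inr 0) 1); have b7 := h4 (Pi.single (.inr 1) 1)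
  simp [sp_smul_def, B4_apply, sub_eq_zero] at a1 a2 a3 a4 a5 a6 a7 a8 b1 b2 b3 b4 b5 b6 b7
  rw [a5] at b1; rw [a7] at b2; rw [a6] at b3; rw [a8] at b4; rw [CharTwo.neg_eq] at b5
  replace b1 : M.1 (.inl 0) (.inl 0) = 1 := by linear_combination -b1
  replace b4 : M.1 (.inl 1) (.inl 1) = 1 := by linear_combination -b4
  have hs : sp4Star F M = spT (Pi.single (.inl 0) 1) (M.1 (.inl 0) (.inr 1) ^ 2) := by
    refine Subtype.ext ((reindex re4 re4).injective ?_)
    rw [reindex_apply, reindex_apply, spT_four, coe_sp4Star, submatrix_submatrix, Sz.star4_eq]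
    ext i j
    fin_cases i <;> fin_cases j <;>
      simp [re4, sq, a1, a2, a3, a4, a5, a6, a7, a8, b1, b2, b3, b4, b5, b6, b7]
  refine ⟨sp4Star F g • Pi.single (.inl 0) 1, M.1 (.inl 0) (.inr 1) ^ 2,
    smul_ne_zero' _ (by simp), pow_ne_zero _ fun h0 => h1 ?_, ?_⟩
  · have : M = 1 := Subtype.ext (by
      ext (i | i) (j | j) <;> fin_cases i <;> fin_cases j <;>
        simp [a1, a2, a3, a4, a5, a6, a7, a8, b1, b2, b3, b4, b5, b6, b7, h0])
    rw [show A = g * M * g⁻¹ by rw [hM]; group, this]; group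
  · rw [← conj_spT, ← hs, ← map_mul, ← map_inv, ← map_mul, hM]; congr 1; group

/-- the remaining involutions have a unipotent centraliser -/
theorem unip {u₀ w₀ u₁ : V4 F} (hx : A • w₀ - w₀ ≠ 0) (hi : ∀ c : F, c • (A • w₀ - w₀) ≠ A • u₀ - u₀)
    (hf : B4 u₁ (A • u₁ - u₁) ≠ 0) {h : Sp4 F} (hc : h * A = A * h) : h ^ 4 = 1 := by
  have h2 : (2 : F) = 0 := CharTwo.two_eq_zero
  have lin : ∀ (a b : F) (v w : V4 F), A • (a • v + b • w) - (a • v + b • w) =
      a • (A • v - v) + b • (A • w - w) := fun a b v w => by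
    rw [smul_add', smul_smul', smul_smul', smul_sub, smul_sub]; abel
  have K : ∀ v w : V4 F, B4 v (A • v - v) = 0 → B4 w (A • w - w) = 0 → B4 (A • v - v) w = 0 := by
    intro v w hv hw
    by_contra hne
    obtain ⟨a, b, hab⟩ := lag_of_ind (x := A • v - v) (e := A • w - w)
      (fun e => hne (by rw [e]; simp)) (iso hA _ _) (fun c e => by
        rw [← e, B4_smul_r, B4_swap] at hw
        obtain rfl : c = 0 := (mul_eq_zero.1 hw).resolve_right (neg_ne_zero.2 hne)
        rw [adj hA, ← e] at hne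
        simp at hne) _ (iso hA u₁ _) (iso hA u₁ _)
    have e1 := f_add hA (a • w + b • v) (u₁ - (a • w + b • v))
    rw [add_sub_cancel, smul_sub', sub_sub_sub_comm, lin, ← hab, sub_self, map_zero, hab, ← lin,
      f_add hA, smul_smul', smul_smul', ← smul_sub, ← smul_sub] at e1
    simp only [B4_smul_l, B4_smul_r, hv, hw, mul_zero, add_zero] at e1
    rw [lin, ← hab] at e1
    exact hf e1
  have C : ∀ k : Sp4 F, k * A = A * k → ∀ v : V4 F, A • k • v - k • v = k • (A • v - v) :=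
    fun k hk v => by rw [smul_sub', ← mul_smul, ← mul_smul, hk]
  have S1 : ∀ k : Sp4 F, k * A = A * k →
      ∀ v : V4 F, B4 (k • v - v) (A • (k • v - v) - (k • v - v)) = 0 :=
    fun k hk v => by
      have e := f_add hA v (k • v - v)
      rw [add_sub_cancel, C k hk, B4_smul] at e
      exact left_eq_add.1 e
  have hc' : h⁻¹ * A = A * h⁻¹ := by rw [inv_mul_eq_iff_eq_mul, ← mul_assoc, hc]; group
  have S2 : ∀ v : V4 F, B4 v (A • v - v) = 0 → h • (A • v - v) - (A • v - v) = 0 := fun v hv =>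
    eq_zero_of_B4 fun w => B4_symm_zero (by
      rw [B4_sub_l, B4_inv, ← B4_sub_r]
      exact K _ _ hv (S1 _ hc' w))
  have C' : ∀ v : V4 F, A • (h • v - v) - (h • v - v) = h • (A • v - v) - (A • v - v) :=
    fun v => by rw [← C h hc, smul_sub']; abel
  refine sp_ext fun v => ?_
  set v1 := h • v - v with e1
  set v2 := h • v1 - v1 with e2
  have k2 : A • v2 - v2 = 0 := by rw [e2, C', S2 _ (S1 h hc v)]
  obtain ⟨a, b, hab⟩ := lag_of_ind hx (iso hA u₀ w₀) hi v2 (by rw [← adj hA, k2]; simp)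
    (by rw [← adj hA, k2]; simp)
  rw [← lin] at hab
  have k4 := S2 _ (S1 h hc (a • u₀ + b • w₀))
  rw [C', ← hab, e2, e1] at k4
  simp only [smul_sub', ← mul_smul] at k4
  rw [show h ^ 4 = h * (h * (h * h)) by simp [pow_succ, mul_assoc], one_smul]
  ext i
  have := congrFun k4 i
  simp only [Pi.sub_apply, Pi.zero_apply] at this
  grind

theorem invol_cases (h1 : A ≠ 1) : (∃ (u : V4 F) (d : F), u ≠ 0 ∧ d ≠ 0 ∧ A = spT u d) ∨
    (∃ (u : V4 F) (d : F), u ≠ 0 ∧ d ≠ 0 ∧ sp4Star F A = spT u d) ∨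
      ∀ h : Sp4 F, h * A = A * h → h ^ 4 = 1 := by
  obtain ⟨w, hw⟩ : ∃ w : V4 F, A • w - w ≠ 0 := by
    by_contra hn
    push Not at hn
    exact h1 (sp_ext fun v => by rw [sub_eq_zero.1 (hn v), one_smul])
  by_cases hr : ∀ v, ∃ c : F, A • v - v = c • (A • w - w)
  · exact Or.inl (rank_one hA h1 hr)
  push Not at hr
  obtain ⟨u, hu⟩ := hr
  have hi := fun c => (hu c).symm
  by_cases hf : ∀ v : V4 F, B4 v (A • v - v) = 0
  · exact Or.inr (Or.inl (short hA h1 (iso hA u w)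
      (fun v => lag_of_ind hw (iso hA u w) hi _ (iso hA _ _) (iso hA _ _)) hf))
  push Not at hf
  obtain ⟨v, hv⟩ := hf
  exact Or.inr (Or.inr fun h hc => unip hA hw hi hv hc)

end Inv

variable [Finite G] [IsSimpleGroup G]

theorem of_tv [Finite F] (hG : ¬ IsMulCommutative G) (hρ : Function.Injective ρ) (hf : NoFix ρ)
    {g : G} {u : V4 F} {d : F} (hu : u ≠ 0) (hd : d ≠ 0) (e : ρ g = spT u d) :
    ∃ K : Subfield F, RealisableOver K (mats ρ) ∧ (K = ⊤ → Function.Surjective ρ) := by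
  obtain ⟨v, d, c, h1, h2, h3, h4, h5, h6⟩ := big_of_tv hG hρ hu hd ⟨g, e⟩
  exact tv (qs_of_simple hG) hf h1 h2 h5 fun _ => ⟨c, h3, h4, h6⟩

omit [Finite G] [IsSimpleGroup G] in
theorem noFix_star [Finite F] (ha : Abs ρ) : NoFix ((sp4Star F).comp ρ) := fun v hv => by
  by_contra h0
  obtain ⟨s, hs⟩ := Finite.surjective_of_injective star_injective (spT v (1 : F))
  obtain ⟨c, hc⟩ := ha.comm (x := s.1) fun g => congrArg Subtype.val (star_injective
    (a₁ := s * ρ g) (a₂ := ρ g * s) (by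
      have := conj_spT (sp4Star F (ρ g)) v 1
      rw [show sp4Star F (ρ g) • v = v from hv g, mul_inv_eq_iff_eq_mul] at this
      rw [map_mul, map_mul, hs, this]))
  have : s ∈ center (Sp4 F) := Subgroup.mem_center_iff.2 fun g => Subtype.ext (by simp [hc])
  rw [center_eq_bot_of_two_eq_zero CharTwo.two_eq_zero, mem_bot] at this
  rw [this, map_one, eq_comm, spT_eq_one_iff h0] at hs
  exact one_ne_zero hs

theorem isCIT [Finite F] (hG : ¬ IsMulCommutative G) (hρ : Function.Injective ρ) (ha : Abs ρ)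
    (hn : NoSub ρ) (hs : ¬ Function.Surjective ρ) : CIT.IsCIT G := fun t ht => by
  have h1 : t ≠ 1 := by rintro rfl; simp at ht
  have h2 : t * t = 1 := by rw [← sq, ← ht, pow_orderOf_eq_one]
  rcases invol_cases (A := ρ t) (by rw [← map_mul, h2, map_one])
    (fun e => h1 (hρ (e.trans (map_one ρ).symm))) with ⟨u, d, hu, hd, e⟩ | ⟨u, d, hu, hd, e⟩ | h
  · obtain ⟨K, k1, k2⟩ := of_tv hG hρ ha.noFix hu hd e
    exact absurd (k2 (hn.eq_top k1)) hs
  · obtain ⟨K, k1, k2⟩ := of_tv (ρ := (sp4Star F).comp ρ) hG (star_injective.comp hρ)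
      (noFix_star ha) hu hd e
    refine absurd (fun A => (k2 (hn K fun g => ?_) (sp4Star F A)).imp fun g e => star_injective e) hs
    have := c2_mem k1 g
    rw [MonoidHom.comp_apply, c2_star] at this
    exact (TR.mem_of_sq_mem K.toSubmonoid this).1
  · refine fun g => ⟨2, Subtype.ext (hρ ?_)⟩
    simpa using h (ρ g) (by rw [← map_mul, ← map_mul, mem_centralizer_singleton_iff.1 g.2])

theorem main [Fintype F] (h4 : 4 ≤ Fintype.card F) (hG : ¬ IsMulCommutative G)
    (hρ : Function.Injective ρ) (ha : Abs ρ) (hn : NoSub ρ) (hs : ¬ Function.Surjective ρ)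
    (hq : ¬ HasQuad ρ) :
    ∃ m : ℕ, 1 ≤ m ∧ Fintype.card F = 2 ^ (2 * m + 1) ∧ Nonempty (G ≃* Lie.Sz F (2 ^ (m + 1))) := by
  rcases (CIT.cit_simple' hG (isCIT hG hρ ha hn hs)).2 with h | h | h | ⟨h | h, -⟩
  · exact absurd (l2even_quad h hρ ha) hq
  · exact sz_field h hρ ha hn
  · exact (l34_false h hρ).elim
  · have := card_sub_one_dvd two_ne_zero (hn.pow_eq 2 1 (by simpa using a6_even h ha))
    have := Nat.le_of_dvd one_pos this
    omega
  · exact (l2prime_false h hρ).elim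

end CfsgLib.Dim4.Ev
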