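import Mathlib
import Cfsg.Agent.Lib.Dim4.TV
import Cfsg.Agent.Lib.Dim4.QDb
import Cfsg.Agent.Lib.Dim4.TRI
import Cfsg.Agent.Lib.Dim4.M45
import Cfsg.Agent.Lib.Dim4.SL
import Cfsg.Agent.Lib.Dim4.OV
import Cfsg.Agent.Lib.Dim4.OV7
import Cfsg.Agent.Lib.GW.Cor1
import Cfsg.Agent.Lib.GW.Main
import Cfsg.Agent.S0253
import Cfsg.Agent.S0254

/-!
DIM4: quasisimple absolutely irreducible subgroups of `Sp₄(q)`, `q` odd.  See `plans/DIM4.md`.
-/

set_option autoImplicit false

namespace CfsgLib.Dim4.Odd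

open Matrix Cfsg Cfsg.Geo CfsgLib.Asch CfsgLib.Forms CfsgLib.Symp Subgroup
open scoped MatrixGroups commutatorElement

variable {G F : Type*} [Group G] [Finite G] [Field F] [NeZero (2 : F)] {ρ : G →* Sp4 F}

theorem nr_closed [IsAlgClosed F] (p : ℕ) [Fact p.Prime] [CharP F p] (hq : QS G) (ha : Abs ρ)
    (ht : NT ρ) : NR ρ := by
  by_contra hr
  have hs := smm p hq ha ht
  have h := rs_of hq ha hs hr
  obtain ⟨t1, t4, t5⟩ := tri p h hs
  refine h.sl fun a k b k' e e' => ?_
  rcases t1 a k b k' e e' with x | x | x | x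
  exacts [Or.inl x, Or.inr x, absurd x (h.no4 t4 a k b k'), absurd x.2 (h.no5 t5 a k b k' x.1)]

theorem nr_of [Finite F] (p : ℕ) [Fact p.Prime] [CharP F p] (hq : QS G) (ha : Abs ρ) (hn : NoSub ρ)
    (hs : ¬ Function.Surjective ρ) : NR ρ := by
  have ht : NT ρ := fun u d h => by
    by_contra hc
    push Not at hc
    obtain ⟨K, k1, k2⟩ := tv hq ha.noFix hc.1 hc.2 h fun e => absurd e two_ne_zero
    exact hs (k2 (hn.eq_top k1))
  let f := algebraMap F (AlgebraicClosure F)
  have : NeZero (2 : AlgebraicClosure F) :=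
    ⟨fun e => two_ne_zero (f.injective (by rw [map_ofNat, e, map_zero]) : (2 : F) = 0)⟩
  have h := nr_closed p hq (ha.bc f) (ht.bc f)
  intro g hg
  have inj : Function.Injective fun A : M4 F => f.mapMatrix A := Matrix.map_injective f.injective
  refine (h g ?_).imp (fun e => inj ?_) fun e => inj ?_
  · exact (map_mul f.mapMatrix _ _).symm.trans (by rw [hg, map_one])
  · exact e.trans (map_one f.mapMatrix).symm
  · exact e.trans (by simp only [map_neg, map_one])

omit [Finite G] [NeZero (2 : F)] in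
theorem center_iff (hρ : Function.Injective ρ) (ha : Abs ρ) (g : G) :
    g ∈ center G ↔ (ρ g).1 = 1 ∨ (ρ g).1 = -1 := by
  constructor
  · intro hc
    obtain ⟨c, h⟩ := ha.comm (x := (ρ g).1) fun k => by
      simpa using congrArg (fun x => (ρ x).1) (Subgroup.mem_center_iff.1 hc k).symm
    exact (Symp.mem_center_iff.1 (Subgroup.mem_center_iff.2 fun k => Subtype.ext (by simp [h]))).imp
      (congrArg Subtype.val) (congrArg Subtype.val)
  · intro h
    refine Subgroup.mem_center_iff.2 fun k => hρ (Subtype.ext ?_)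
    rcases h with h | h <;> simp [h]

omit [Finite G] [NeZero (2 : F)] in
theorem cov_of {A : Type*} [Group A] (hq : QS G) (hρ : Function.Injective ρ) (ha : Abs ρ)
    (hr : NR ρ) (e : G ⧸ center G ≃* A) : Cov ρ (e.toMonoidHom.comp (QuotientGroup.mk' _)) :=
  ⟨hq, hρ, ha, hr, e.surjective.comp (QuotientGroup.mk'_surjective _), fun g => by
    rw [← center_iff hρ ha]; simp⟩

omit [NeZero (2 : F)] in
theorem cases (hq : QS G) (hρ : Function.Injective ρ) (ha : Abs ρ) (hr : NR ρ) :
    (∃ (E : Type) (_ : Field E) (_ : Fintype E), Odd (Fintype.card E) ∧ 3 < Fintype.card E ∧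
      Nonempty (G ≃* SL(2, E))) ∨ Nonempty (G ⧸ center G ≃* alternatingGroup (Fin 7)) := by
  have hne : center G ≠ ⊤ := fun e => by
    have := ha.not_fix (v := Pi.single (.inl 0) 1) fun g => by
      rcases (center_iff hρ ha g).1 (e ▸ mem_top g) with h | h
      · exact ⟨1, by rw [sp_smul_def, h, one_mulVec, one_smul]⟩
      · exact ⟨-1, by rw [sp_smul_def, h, neg_mulVec, one_mulVec, neg_one_smul]⟩
    simp at this
  have hev : Even (Nat.card G) := Nat.not_odd_iff_even.1 fun h => by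
    have := FT.odd_order_solvable h
    have : Nontrivial G := by
      by_contra hn
      rw [not_nontrivial_iff_subsingleton] at hn
      exact hne (Subsingleton.elim _ _)
    exact (Group.IsSolvable.commutator_lt_top_of_nontrivial G).ne hq.perf
  have hO : pPrimeCore 2 G = ⊥ := by
    have ho := Core.odd_card_oddCore G
    rcases hq.nrm (pPrimeCore 2 G) inferInstance with h | h
    · refine eq_bot_iff.2 fun g hg => mem_bot.2 (orderOf_eq_one_iff.1 ?_)
      have h2 : g ^ 2 = 1 := hρ (Subtype.ext (by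
        rcases (center_iff hρ ha g).1 (h hg) with e | e <;> simp [sq, e]))
      exact Nat.eq_one_of_dvd_coprimes (Nat.coprime_two_left.2 ho) (orderOf_dvd_of_pow_eq_one h2)
        ((pPrimeCore 2 G).orderOf_dvd_natCard hg)
    · rw [h, card_top] at ho
      exact absurd ho (Nat.not_odd_iff_even.2 hev)
  let e := (QuotientGroup.quotientMulEquivOfEq hO).trans QuotientGroup.quotientBot
  have h1 : PRankLE 2 1 G := fun A _ hA => by
    have := Nat.card_le_card_of_injective (β := ({1, -1} : Set (M4 F)))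
      (fun a : A => ⟨(ρ a).1, hr a (by
        rw [← Submonoid.coe_mul, ← map_mul, ← sq, hA a a.2, map_one]; rfl)⟩)
      fun a b h => Subtype.ext (hρ (Subtype.ext (Subtype.mk.inj h)))
    exact this.trans ((Set.ncard_insert_le _ _).trans (by simp))
  rcases GW.Cor.rank_one_of_perfect (GW.ih_all GW.Cor.ft) hq.perf h1 hev with
    ⟨E, _, _, h1, h2, ⟨f⟩⟩ | ⟨-, ⟨f⟩, -⟩
  · exact Or.inl ⟨E, _, _, h1, h2, ⟨e.symm.trans f⟩⟩
  · exact Or.inr ⟨(Classical.centerQuotEquiv e.symm).trans f⟩

omit [NeZero (2 : F)] in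
theorem card_eq [Fintype F] (p : ℕ) [hp : Fact p.Prime] [CharP F p] (h : ∀ a : F, a ^ p ^ 1 = a) :
    Fintype.card F = p := by
  have := Nat.le_of_dvd (by have := hp.out.one_lt; simp; omega)
    (card_sub_one_dvd (pow_ne_zero 1 hp.out.ne_zero) h)
  obtain ⟨n, -, hn⟩ := FiniteField.card F p
  have h2 := Nat.le_self_pow n.pos.ne' p
  have := hp.out.one_lt
  simp only [pow_one] at *
  omega

omit [Finite G] [NeZero (2 : F)] in
theorem over_comp {H : Type*} [Group H] (e : H ≃* G) (h : Over (ρ.comp e.toMonoidHom)) : Over ρ := by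
  have : (ρ.comp e.toMonoidHom).range = ρ.range := by
    rw [MonoidHom.range_comp, MonoidHom.range_eq_top.2 e.surjective, ← MonoidHom.range_eq_map]
  rwa [Over, this] at h

theorem main [Fintype F] (p : ℕ) [hp : Fact p.Prime] [CharP F p] (hq : QS G)
    (hρ : Function.Injective ρ) (ha : Abs ρ) (hn : NoSub ρ) (hs : ¬ Function.Surjective ρ)
    (ho : ¬ Over ρ) :
    (Nonempty (G ⧸ center G ≃* alternatingGroup (Fin 6)) ∧ Fintype.card F = p ∧ 5 ≤ p ∧ p ≠ 7) ∨
    (Nonempty (G ⧸ center G ≃* alternatingGroup (Fin 7)) ∧ Fintype.card F = 7) ∨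
    (Nonempty (G ⧸ center G ≃* PSL(2, F)) ∧ 5 ≤ p ∧ 7 < Fintype.card F) := by
  have hr := nr_of p hq ha hn hs
  have h2 : p ≠ 2 := by rintro rfl; exact two_ne_zero (CharP.cast_eq_zero F 2)
  rcases cases hq hρ ha hr with ⟨E, _, _, h1, h3, ⟨e⟩⟩ | ⟨⟨e⟩⟩
  · let f : G ⧸ center G ≃* PSL(2, E) := Classical.centerQuotEquiv e
    have n5 : Fintype.card E ≠ 5 := fun h => by
      obtain ⟨k⟩ := Cfsg.Agent.S0253.result h
      exact ho (over5 (cov_of hq hρ ha hr (f.trans k)))
    have hρ' : Function.Injective (ρ.comp e.symm.toMonoidHom) := hρ.comp e.symm.injective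
    have ha' := ha.comp (φ := e.symm.toMonoidHom) e.symm.surjective
    obtain ⟨r, hr'⟩ := CharP.exists E
    obtain ⟨n, hr1, hn'⟩ := FiniteField.card E r
    by_cases hrp : r = p
    · subst hrp
      obtain ⟨k1, k2⟩ := sl2_field h2 hρ' ha' (hn.comp e.symm.surjective)
      obtain ⟨k⟩ := CIT.App.nonempty_psl_equiv 2 k2
      have n7 : Fintype.card E ≠ 7 := fun h => ho (over_comp e.symm (over7 h (k2 ▸ h) hρ' ha'))
      refine Or.inr (Or.inr ⟨⟨f.trans k⟩, k1, ?_⟩)
      obtain ⟨m, hm⟩ := h1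
      omega
    · have hE : (Fintype.card E : F) ≠ 0 := by
        rw [hn', Ne, CharP.cast_eq_zero_iff F p]
        exact fun h => hrp ((Nat.prime_dvd_prime_iff_eq hp.out hr1).1 (hp.out.dvd_of_dvd_pow h)).symm
      have h9 : Fintype.card E = 9 := (xch h1 hE (ρ := ρ.comp e.symm.toMonoidHom) fun h => by
        simpa using congrFun (congrFun (congrArg Subtype.val (hρ' (h.trans (map_one _).symm))) 0) 1
        ).resolve_left fun h => by obtain ⟨m, hm⟩ := h1; omega
      obtain ⟨k⟩ := Cfsg.Agent.S0254.result h9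
      have hc := cov_of hq hρ ha hr (f.trans k)
      have n3 : p ≠ 3 := by
        rintro rfl
        exact hE (by rw [h9, CharP.cast_eq_zero_iff F 3]; norm_num)
      refine Or.inl ⟨⟨f.trans k⟩, card_eq p (hn.pow_eq p 1 (by simpa using tr_a6 hc p n3)), ?_, ?_⟩
      · exact hp.out.five_le_of_ne_two_of_ne_three h2 n3
      · rintro rfl
        exact ho (over6 hc)
  · obtain ⟨k1, k2⟩ := tr_a7 (cov_of hq hρ ha hr e)
    have : Fact (Nat.Prime 7) := ⟨by norm_num⟩
    exact Or.inr (Or.inl ⟨⟨e⟩, card_eq 7 (hn.pow_eq 7 1 (by simpa using k2))⟩)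

end CfsgLib.Dim4.Odd
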